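import Mathlib
import Cfsg.Agent.Lib.Helper10.BR0

set_option autoImplicit false

namespace Cfsg.Agent.Lib.Helper10.BR

/-- BR-X3 -/
theorem arith_X (p e n d : ℕ) (s : ℤ) (hp : p.Prime) (hp5 : 5 ≤ p) (he2 : 2 ≤ e) (hn : 2 ≤ n)
    (hne : n * e < p) (hd2 : 2 ≤ d) (hdvd : d ∣ (1 + n * p) * e) (hs : s = 1 ∨ s = -1)
    (hmod : (d : ℤ) ≡ s [ZMOD p]) :
    (s = 1 ∧ d = 1 + n * p) ∨ (s = -1 ∧ d = p - 1 ∧ (n + 1) * e = p - 1) := by
  obtain ⟨c, hc⟩ := hdvd
  have hc1 : 1 ≤ c := by
    rcases Nat.eq_zero_or_pos c with h | h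
    · subst h
      rw [mul_zero] at hc
      have h1 : 0 < (1 + n * p) * e := Nat.mul_pos (by omega) (by omega)
      omega
    · exact h
  have hcZ : ((1 : ℤ) + n * p) * e = d * c := by exact_mod_cast hc
  have hpZ : (5 : ℤ) ≤ p := by exact_mod_cast hp5
  have heZ : (2 : ℤ) ≤ e := by exact_mod_cast he2
  have hnZ : (2 : ℤ) ≤ n := by exact_mod_cast hn
  have hneZ : (n : ℤ) * e < p := by exact_mod_cast hne
  have hdZ : (2 : ℤ) ≤ d := by exact_mod_cast hd2
  have hcZ1 : (1 : ℤ) ≤ c := by exact_mod_cast hc1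
  have h2e : (2 : ℤ) * e ≤ p - 1 := by nlinarith
  rcases hs with rfl | rfl
  · left
    refine ⟨rfl, ?_⟩
    obtain ⟨u, hu⟩ := hmod.symm.dvd
    have hd : (d : ℤ) = 1 + p * u := by linarith
    have hu1 : 1 ≤ u := by
      by_contra hcon
      push Not at hcon
      have h1 : (p : ℤ) * u ≤ p * 0 := mul_le_mul_of_nonneg_left (by omega) (by omega)
      nlinarith
    rw [hd] at hcZ
    obtain ⟨w, hw⟩ : ∃ w : ℤ, w = e * n - c * u := ⟨_, rfl⟩
    have hcw : (c : ℤ) = e + p * w := by
      rw [hw]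
      linear_combination (-1 : ℤ) * hcZ
    have hw0 : 0 ≤ w := by
      by_contra hcon
      push Not at hcon
      have h1 : (p : ℤ) * w ≤ p * (-1) := mul_le_mul_of_nonneg_left (by omega) (by omega)
      nlinarith
    have hkey : w * (1 + p * u) = e * (n - u) := by
      have h1 : w = e * n - (e + p * w) * u := by rw [← hcw]; exact hw
      linear_combination h1
    have hw00 : w = 0 := by
      by_contra hcon
      have hw1 : 1 ≤ w := by omega
      have h1 : (1 : ℤ) + p * u ≤ w * (1 + p * u) := by nlinarith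
      have h2 : (p : ℤ) * 1 ≤ p * u := mul_le_mul_of_nonneg_left hu1 (by omega)
      have h3 : (e : ℤ) * (n - u) ≤ e * n := by nlinarith
      nlinarith
    rw [hw00, zero_mul] at hkey
    have hun : u = n := by
      rcases mul_eq_zero.mp hkey.symm with h | h
      · omega
      · omega
    rw [hun] at hd
    have : (d : ℤ) = ((1 + n * p : ℕ) : ℤ) := by
      push_cast
      linarith
    exact_mod_cast this
  · right
    refine ⟨rfl, ?_⟩
    obtain ⟨u, hu⟩ := hmod.symm.dvd
    have hd : (d : ℤ) = p * u - 1 := by linarith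
    have hu1 : 1 ≤ u := by
      by_contra hcon
      push Not at hcon
      have h1 : (p : ℤ) * u ≤ p * 0 := mul_le_mul_of_nonneg_left (by omega) (by omega)
      nlinarith
    rw [hd] at hcZ
    obtain ⟨h, hh⟩ : ∃ h : ℤ, h = u * c - n * e := ⟨_, rfl⟩
    have hch : (c : ℤ) + e = p * h := by
      rw [hh]
      linear_combination hcZ
    have hh1 : 1 ≤ h := by
      by_contra hcon
      push Not at hcon
      have h1 : (p : ℤ) * h ≤ p * 0 := mul_le_mul_of_nonneg_left (by omega) (by omega)
      nlinarith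
    have hkey : h * (u * p - 1) = e * (n + u) := by
      have h1 : h = u * (p * h - e) - n * e := by
        rw [← hch]
        rw [hh]
        ring
      linear_combination (-1 : ℤ) * h1
    have hup : (p : ℤ) * 1 ≤ p * u := mul_le_mul_of_nonneg_left hu1 (by omega)
    have hu2 : u = 1 := by
      by_contra hcon
      have hu2 : 2 ≤ u := by omega
      have h1 : u * p - 1 ≤ h * (u * p - 1) := by nlinarith
      have h3 : (2 : ℤ) * e * u ≤ (p - 1) * u := mul_le_mul_of_nonneg_right h2e (by omega)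
      have h4 : (2 : ℤ) * p ≤ u * p := by nlinarith
      nlinarith
    subst hu2
    have hh2 : h = 1 := by
      by_contra hcon
      have hh2 : 2 ≤ h := by omega
      have h1 : 2 * ((p : ℤ) - 1) ≤ h * (1 * p - 1) := by nlinarith
      nlinarith
    subst hh2
    have hdn : d = p - 1 := by omega
    refine ⟨hdn, ?_⟩
    have h5 : (((n + 1) * e + 1 : ℕ) : ℤ) = (p : ℤ) := by
      push_cast
      linarith
    have h6 : (n + 1) * e + 1 = p := by exact_mod_cast h5
    exact Nat.eq_sub_of_add_eq h6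

end Cfsg.Agent.Lib.Helper10.BR
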