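import Mathlib
import Cfsg.Prelude.Def_LocalStructure

/-! helper63: piece PC-IND (`lower_of_minimal`) for helper10's S3875. -/

set_option autoImplicit false

namespace Cfsg.Agent.Lib.Helper10.PC

open Cfsg

/-- PC-IND -/
theorem lower_of_minimal (p : ℕ) [Fact p.Prime] (b : ℕ)
    (hmin : ∀ (H : Type) [Group H] [Finite H], ¬ IsPClosed p H →
      (∀ K : Subgroup H, K ≠ ⊤ → IsPClosed p K) →
      (∀ (K : Subgroup H) [K.Normal], K ≠ ⊥ → IsPClosed p (H ⧸ K)) → b ≤ Nat.card H)
    (H : Type) [Group H] [Finite H] (hH : ¬ IsPClosed p H) : b ≤ Nat.card H := by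
  have key : ∀ n : ℕ, ∀ (H : Type) [Group H] [Finite H], Nat.card H = n →
      ¬ IsPClosed p H → b ≤ Nat.card H := by
    intro n
    induction n using Nat.strong_induction_on with
    | _ n ih =>
      intro H _ _ hn hH
      by_cases h1 : ∀ K : Subgroup H, K ≠ ⊤ → IsPClosed p K
      · by_cases h2 : ∀ (K : Subgroup H) [K.Normal], K ≠ ⊥ → IsPClosed p (H ⧸ K)
        · exact hmin H hH h1 h2
        · push Not at h2
          obtain ⟨K, hKn, hKbot, hK⟩ := h2
          have hmul := Subgroup.card_eq_card_quotient_mul_card_subgroup K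
          have hK2 : 1 < Nat.card K := (Subgroup.one_lt_card_iff_ne_bot K).mpr hKbot
          have hQ1 : 0 < Nat.card (H ⧸ K) := Nat.card_pos
          have hlt : Nat.card (H ⧸ K) < n := by
            rw [← hn, hmul]
            nlinarith
          have h3 := ih _ hlt (H ⧸ K) rfl hK
          omega
      · push Not at h1
        obtain ⟨K, hKtop, hK⟩ := h1
        have hle : Nat.card K ≤ Nat.card H := Subgroup.card_le_card_group K
        have hne : Nat.card K ≠ Nat.card H := fun h => hKtop (Subgroup.eq_top_of_card_eq K h)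
        have hlt : Nat.card K < n := by omega
        have h3 := ih _ hlt K rfl hK
        omega
  exact key _ H rfl hH

end Cfsg.Agent.Lib.Helper10.PC
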