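import Mathlib
import Cfsg.Agent.Lib.Helper76.SylPrime

/-!
S0983 tool piece T1FIX (helper63 for helper11): an element of prime order `q` in `C(P)` has a
legal fixed-point count on the Sylow `p`-subgroups.
-/

set_option autoImplicit false

namespace Cfsg.Agent.S983

open Subgroup

variable {G : Type*} [Group G] [Finite G]

/-- piece T1FIX -/
theorem fix_data [IsSimpleGroup G] (hG : ¬ IsMulCommutative G) (p : ℕ) [Fact p.Prime]
    (P : Sylow p G) (c : ℕ)
    (hC : Nat.card (centralizer ((P : Subgroup G) : Set G)) = p * c)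
    (hn : Nat.card (Sylow p G) ≠ 1) (q : ℕ) (hq : q.Prime) (hqc : q ∣ c) :
    ∃ f : ℕ, f % p = 1 ∧ f % q = Nat.card (Sylow p G) % q ∧ f < Nat.card (Sylow p G) ∧
      (q = 2 → f % 4 = Nat.card (Sylow p G) % 4) := by
  have : Fact q.Prime := ⟨hq⟩
  have hqC : q ∣ Nat.card (centralizer ((P : Subgroup G) : Set G)) := by
    rw [hC]; exact Dvd.dvd.mul_left hqc p
  obtain ⟨y, hy, hy1, hyq⟩ := Cfsg.Agent.Lib.Helper76.SylPrime.exists_mem_pow_eq_one
    (centralizer ((P : Subgroup G) : Set G)) q hqC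
  refine ⟨(MulAction.fixedBy (Sylow p G) y).ncard, ?_, ?_, ?_, ?_⟩
  · exact Cfsg.Agent.Lib.Helper76.SylPrime.fix_mod P y hy
  · exact Cfsg.Agent.Lib.Helper76.SylPrime.fix_modEq_of_pow q y 1 (by simpa using hyq)
  · exact Cfsg.Agent.Lib.Helper76.SylPrime.fix_lt hG hn y hy1
  · intro hq2
    subst hq2
    exact Cfsg.Agent.Lib.Helper76.SylPrime.fix_mod_four hG hn y hy1 hyq

end Cfsg.Agent.S983
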