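import Cfsg.Agent.Lib.Helper15.BG13CDefs
import Cfsg.Agent.S1414

/-!
# B&G Corollary 13.3(b) (row S1428), piece C-G1A (helper63 for helper15)

`g1a`: for `q ∈ σ(H) \ β(H)` and an abelian Sylow `q`-subgroup `Q` of `H`,
`N_G(Q) ∩ H' ≤ C_G(Q)` (`H'` has a normal `q`-complement `K`, and `[N_K(Q), Q] ≤ K ∩ Q = 1`).
-/

set_option autoImplicit false

open Cfsg Cfsg.Agent.Lib.Helper32 Cfsg.Agent.Lib.Helper32.BG10 Cfsg.Agent.Lib.Helper3.BG12

namespace Cfsg.Agent.Lib.Helper15.BG13C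

universe u

variable {G : Type u} [Group G] [Finite G]

theorem g1a : G1aStmt G := by
  intro hG H hH q _ hq hqb Q hQ hQc
  have hqp : q.Prime := Fact.out
  obtain ⟨-, -, -, -, h5⟩ := Cfsg.Agent.S1414.result hG H hH
  obtain ⟨hnpc, -, -⟩ := h5 q hqp hq.2.1 hqb
  have hQH : Q ≤ H := hQ.1
  have hQD : Q ≤ ⁅H, H⁆ :=
    (Cfsg.Agent.Lib.Helper3.BG12S.pgroup_le_sigmaCore hG hH hq (isPGroup_of_mem_sylSet hQ) hQH).trans
      (Cfsg.Agent.Lib.Helper3.BG12S.sigmaCore_le_comm hG hH)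
  have hDH : ⁅H, H⁆ ≤ H := by
    rw [Subgroup.commutator_le]
    intro a ha b hb
    rw [commutatorElement_def]
    exact H.mul_mem (H.mul_mem (H.mul_mem ha hb) (H.inv_mem ha)) (H.inv_mem hb)
  have hQsyl : Q ∈ sylSet q ⁅H, H⁆ := by
    refine ⟨hQD, ?_⟩
    rw [hQ.2]
    congr 1
    apply le_antisymm
    · have h1 : q ^ (Nat.card H).factorization q ∣ Nat.card ↥⁅H, H⁆ := by
        rw [← hQ.2]
        exact Subgroup.card_dvd_of_le hQD
      exact (hqp.pow_dvd_iff_le_factorization (Nat.card_pos.ne')).mp h1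
    · have h1 : q ^ (Nat.card ↥⁅H, H⁆).factorization q ∣ Nat.card H :=
        (Nat.ordProj_dvd _ _).trans (Subgroup.card_dvd_of_le hDH)
      exact (hqp.pow_dvd_iff_le_factorization (Nat.card_pos.ne')).mp h1
  obtain ⟨K, hKD, hKcop, hKn, hKR⟩ := Cfsg.Agent.Lib.Helper3.BG12S.exists_npc_sub hnpc
  obtain ⟨hsup, -⟩ := hKR Q hQsyl
  have hHK : H ≤ Subgroup.normalizer (K : Set G) :=
    (Cfsg.Agent.Lib.Helper3.BG13.le_normalizer_commutator H).trans hKn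
  have hKQ : K ⊓ Q = ⊥ := by
    apply (Subgroup.disjoint_of_coprime_natCard _).eq_bot
    rw [hQ.2]
    exact Nat.Coprime.pow_right _ hKcop
  rintro g ⟨hgN, hgD⟩
  have hg' : g ∈ ((K ⊔ Q : Subgroup G) : Set G) := by
    rw [hsup]
    exact hgD
  rw [Subgroup.coe_mul_of_right_le_normalizer_left K Q (hQH.trans hHK)] at hg'
  obtain ⟨k, hk, y, hy, rfl⟩ := Set.mem_mul.mp hg'
  have hkN : k ∈ Subgroup.normalizer (Q : Set G) := by
    have h1 : k = (k * y) * y⁻¹ := by group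
    rw [h1]
    exact Subgroup.mul_mem _ hgN (Subgroup.inv_mem _ (Subgroup.le_normalizer hy))
  have hkC : ∀ x ∈ Q, x * k = k * x := by
    intro x hx
    have h1 : k * x * k⁻¹ * x⁻¹ ∈ Q :=
      Q.mul_mem ((Subgroup.mem_normalizer_iff.mp hkN x).mp hx) (Q.inv_mem hx)
    have h2 : k * x * k⁻¹ * x⁻¹ ∈ K := by
      have h3 : x * k⁻¹ * x⁻¹ ∈ K :=
        (Subgroup.mem_normalizer_iff.mp (hHK (hQH hx)) k⁻¹).mp (K.inv_mem hk)
      have h4 : k * x * k⁻¹ * x⁻¹ = k * (x * k⁻¹ * x⁻¹) := by group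
      rw [h4]
      exact K.mul_mem hk h3
    have h5 : k * x * k⁻¹ * x⁻¹ ∈ K ⊓ Q := ⟨h2, h1⟩
    rw [hKQ, Subgroup.mem_bot] at h5
    have h7 : k * x * k⁻¹ = x := by rw [mul_eq_one_iff_eq_inv.mp h5, inv_inv]
    exact (mul_inv_eq_iff_eq_mul.mp h7).symm
  rw [Subgroup.mem_centralizer_iff]
  intro x hx
  have hxy : x * y = y * x := by
    have h1 : (⟨x, hx⟩ : Q) * ⟨y, hy⟩ = ⟨y, hy⟩ * ⟨x, hx⟩ := hQc.is_comm.comm _ _
    exact congrArg Subtype.val h1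
  calc x * (k * y) = (x * k) * y := by rw [mul_assoc]
    _ = (k * x) * y := by rw [hkC x hx]
    _ = k * (x * y) := by rw [mul_assoc]
    _ = k * (y * x) := by rw [hxy]
    _ = k * y * x := by rw [mul_assoc]

end Cfsg.Agent.Lib.Helper15.BG13C
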