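import Mathlib
import Cfsg.Agent.Lib.Helper10.BWDefs

/-!
# S0997 case B2 (project BW), piece SUMN (helper63 for helper10)

`Σ_{n∈N} |θ(n)|² = 2ep`, `Σ_{n∈N} θ conj θ' = ep`, `Σ_{u∈P} θ conj θ' = p`.
-/

set_option autoImplicit false
set_option linter.style.haveILetI false

namespace Cfsg.Agent.Lib.Helper10.BW

open Cfsg
open Cfsg.Agent.Lib.Helper83 (trivIrr)
open Cfsg.Agent.Lib.Helper10.BR (psum)
open scoped ComplexConjugate

universe u

variable {G : Type u} [Group G] [Fintype G]

private theorem sumn_real {p : ℕ} (a : ℂ) (h : (2 * a - 1) ^ 2 = (p : ℂ)) : conj a = a := by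
  have hs : ((Real.sqrt p : ℝ) : ℂ) ^ 2 = (p : ℂ) := by
    rw [← Complex.ofReal_pow, Real.sq_sqrt (Nat.cast_nonneg p)]
    simp
  have h0 : (2 * a - 1 - (Real.sqrt p : ℝ)) * (2 * a - 1 + (Real.sqrt p : ℝ)) = 0 := by
    linear_combination h - hs
  have hz : conj (2 * a - 1) = 2 * a - 1 := by
    rcases mul_eq_zero.mp h0 with h3 | h3
    · have h4 : 2 * a - 1 = ((Real.sqrt p : ℝ) : ℂ) := by linear_combination h3
      rw [h4, Complex.conj_ofReal]
    · have h4 : 2 * a - 1 = -((Real.sqrt p : ℝ) : ℂ) := by linear_combination h3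
      rw [h4, map_neg, Complex.conj_ofReal]
  have h4 : conj (2 * a - 1) = 2 * conj a - 1 := by
    rw [map_sub, map_mul, map_one, Complex.conj_ofNat]
  rw [h4] at hz
  linear_combination hz / 2

private theorem sumn_psum_ite (H : Subgroup G) (F : G → ℂ) [DecidablePred (· ∈ H)] :
    psum H F 1 = ∑ g : G, if g ∈ H then F g else 0 := by
  haveI : Fintype H := Fintype.ofFinite H
  rw [Cfsg.Agent.Lib.Helper10.BR.psum_eq_sum]
  simp only [one_mul]
  rw [← Finset.sum_filter]
  exact (Finset.sum_subtype (Finset.univ.filter (· ∈ H)) (by simp) F).symm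

private theorem sumn_psum_const (H : Subgroup G) :
    psum H (fun _ => (1 : ℂ)) 1 = (Nat.card H : ℂ) := by
  haveI : Fintype H := Fintype.ofFinite H
  rw [Cfsg.Agent.Lib.Helper10.BR.psum_eq_sum, Finset.sum_const, Finset.card_univ,
    Nat.card_eq_fintype_card]
  simp

variable {p e : ℕ} {P : Subgroup G} {θ θ' : IrrCharacter G} {Xp Xm D : Finset (IrrCharacter G)}

/-- BW-SUMN -/
theorem sum_norm (h : VTab G p e P θ θ' Xp Xm D) (h1 : psum P (θ : G → ℂ) 1 = (p : ℂ))
    (hN : ∀ n ∈ Subgroup.normalizer (P : Set G), n ∉ P →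
      (θ : G → ℂ) n * conj ((θ : G → ℂ) n) = 1)
    (hNreg : ∀ n ∈ Subgroup.normalizer (P : Set G), n ∉ P →
      (θ' : G → ℂ) n = (θ : G → ℂ) n) :
    psum (Subgroup.normalizer (P : Set G)) (pc (θ : G → ℂ) (θ : G → ℂ)) 1 = 2 * ((e : ℂ) * p) ∧
    psum (Subgroup.normalizer (P : Set G)) (pc (θ : G → ℂ) (θ' : G → ℂ)) 1 = (e : ℂ) * p ∧
    psum P (pc (θ : G → ℂ) (θ' : G → ℂ)) 1 = (p : ℂ) := by
  classical
  haveI : Fintype P := Fintype.ofFinite P
  have hpe : (p : ℂ) = 2 * (e : ℂ) + 1 := by rw [h.hpe]; push_cast; ring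
  have hcardP : (Fintype.card P : ℂ) = p := by rw [← Nat.card_eq_fintype_card, h.cardP]
  have hpsP : ∀ F : G → ℂ, psum P F 1 = ∑ u : P, F u := by
    intro F
    rw [Cfsg.Agent.Lib.Helper10.BR.psum_eq_sum]
    simp only [one_mul]
  have hθ1 : ∑ u : P, (θ : G → ℂ) u = p := by rw [← h1, hpsP]
  have hind : ∀ c : ℂ, ∑ u : P, (if (u : G) = 1 then c else 0) = c := by
    intro c
    have h3 : ∀ u : P, (if (u : G) = 1 then c else 0) = if u = 1 then c else 0 := by
      intro u
      by_cases hu : u = 1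
      · rw [if_pos hu, if_pos (by rw [hu]; rfl)]
      · rw [if_neg hu, if_neg (show ¬ ((u : G) = 1) from fun h4 => hu (Subtype.ext h4))]
    rw [Finset.sum_congr rfl (fun u _ => h3 u), Finset.sum_ite_eq' Finset.univ (1 : P)]
    simp
  have hconj_e : conj ((e : ℂ) + 1) = (e : ℂ) + 1 := by
    rw [map_add, map_one, Complex.conj_natCast]
  -- the two sums over P
  have hPθθ : psum P (pc (θ : G → ℂ) (θ : G → ℂ)) 1 = (p : ℂ) * (e + 1) := by
    have hpt : ∀ u : P, pc (θ : G → ℂ) (θ : G → ℂ) u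
        = (θ : G → ℂ) u + (e : ℂ) / 2 + (if (u : G) = 1 then ((e : ℂ) ^ 2 + e / 2) else 0) := by
      intro u
      by_cases hu : (u : G) = 1
      · rw [if_pos hu, hu]
        unfold pc
        rw [h.degθ, hconj_e]
        ring
      · rw [if_neg hu, add_zero]
        have hsq := h.sq u u.2 hu
        have hre := sumn_real _ hsq
        unfold pc
        rw [hre]
        rw [hpe] at hsq
        linear_combination hsq / 4
    rw [hpsP, Finset.sum_congr rfl (fun u _ => hpt u), Finset.sum_add_distrib,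
      Finset.sum_add_distrib, hθ1, hind, Finset.sum_const, Finset.card_univ, nsmul_eq_mul,
      hcardP, hpe]
    ring
  have hPθθ' : psum P (pc (θ : G → ℂ) (θ' : G → ℂ)) 1 = (p : ℂ) := by
    have hpt : ∀ u : P, pc (θ : G → ℂ) (θ' : G → ℂ) u
        = -((e : ℂ) / 2) + (if (u : G) = 1 then (((e : ℂ) + 1) ^ 2 + e / 2) else 0) := by
      intro u
      by_cases hu : (u : G) = 1
      · rw [if_pos hu, hu]
        unfold pc
        rw [h.degθ, h.degθ', hconj_e]
        ring
      · rw [if_neg hu, add_zero]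
        have hsq := h.sq u u.2 hu
        have hre := sumn_real _ hsq
        have hsum := h.sumθ u u.2 hu
        have h3 : (θ' : G → ℂ) u = 1 - (θ : G → ℂ) u := by linear_combination hsum
        unfold pc
        rw [h3, map_sub, map_one, hre]
        rw [hpe] at hsq
        linear_combination -hsq / 4
    rw [hpsP, Finset.sum_congr rfl (fun u _ => hpt u), Finset.sum_add_distrib,
      hind, Finset.sum_const, Finset.card_univ, nsmul_eq_mul, hcardP, hpe]
    ring
  -- splitting the sums over N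
  have hsplit : ∀ F : G → ℂ, (∀ n ∈ Subgroup.normalizer (P : Set G), n ∉ P → F n = 1) →
      psum (Subgroup.normalizer (P : Set G)) F 1 = psum P F 1 + ((e : ℂ) * p - p) := by
    intro F hF
    have key : ∀ g : G, (if g ∈ Subgroup.normalizer (P : Set G) then F g else 0)
        = (if g ∈ P then F g else 0)
          + ((if g ∈ Subgroup.normalizer (P : Set G) then (1 : ℂ) else 0)
            - (if g ∈ P then (1 : ℂ) else 0)) := by
      intro g
      by_cases hgP : g ∈ P
      · have hgN : g ∈ Subgroup.normalizer (P : Set G) := Subgroup.le_normalizer hgP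
        rw [if_pos hgP, if_pos hgN, if_pos hgN, if_pos hgP]
        ring
      · by_cases hgN : g ∈ Subgroup.normalizer (P : Set G)
        · rw [if_neg hgP, if_pos hgN, if_pos hgN, if_neg hgP, hF g hgN hgP]
          ring
        · rw [if_neg hgP, if_neg hgN, if_neg hgN, if_neg hgP]
          ring
    rw [sumn_psum_ite (Subgroup.normalizer (P : Set G)) F, sumn_psum_ite P F,
      Finset.sum_congr rfl (fun g _ => key g), Finset.sum_add_distrib, Finset.sum_sub_distrib,
      ← sumn_psum_ite (Subgroup.normalizer (P : Set G)) (fun _ => (1 : ℂ)),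
      ← sumn_psum_ite P (fun _ => (1 : ℂ)), sumn_psum_const, sumn_psum_const, h.cardN, h.cardP]
    push_cast
    ring
  refine ⟨?_, ?_, hPθθ'⟩
  · rw [hsplit (pc (θ : G → ℂ) (θ : G → ℂ)) (fun n hn hnP => hN n hn hnP), hPθθ]
    ring
  · rw [hsplit (pc (θ : G → ℂ) (θ' : G → ℂ)) (fun n hn hnP => by
      show (θ : G → ℂ) n * conj ((θ' : G → ℂ) n) = 1
      rw [hNreg n hn hnP]; exact hN n hn hnP), hPθθ']
    ring

end Cfsg.Agent.Lib.Helper10.BW
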