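import Mathlib
import Cfsg.Agent.Lib.Helper70.SchurTwoE

/-!
S2049 piece HeM-TWO (helper70): the local criterion at the prime 2 for `V = 2^6`, `y` of order 3
acting fixed point freely, and `D = ⟨s, t⟩ × ⟨r⟩` normalising `V` and `⟨y⟩`.
-/

set_option autoImplicit false

open scoped commutatorElement

universe u v

namespace Cfsg.Agent.Lib.Helper63.HeMTWO

open Cfsg.Agent.Lib.Helper70

private theorem xor_self_fin : ∀ i : Fin 64, i ^^^ i = 0 := by decide

private theorem xor_eq_zero_fin : ∀ i j : Fin 64, i ^^^ j = 0 → i = j := by decide +kernel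

theorem two_local_of_data {Γ : Type u} {G : Type v} [Group Γ] [Group G] [Finite G] (σ : Γ →* G)
    (hσ : Function.Surjective σ) (hc : σ.ker ≤ Subgroup.center Γ) (h2 : ∀ ζ ∈ σ.ker, ζ * ζ = 1)
    (hG : ¬ 2 ^ 11 ∣ Nat.card G)
    (e : Fin 64 → G) (hmul : ∀ i j, e i * e j = e (i ^^^ j)) (he1 : ∀ i, e i = 1 → i = 0)
    (hQ : ∀ i, QOne σ (e i))
    (y : G) (hy3 : y * y * y = 1) (υ : Fin 64 → Fin 64) (hy : ∀ i, y * e i * y⁻¹ = e (υ i))
    (hfpf : ∀ i, υ i = i → i = 0)
    (s t r : G) (τs τt τr : Fin 64 → Fin 64)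
    (hs : ∀ i, s * e i * s⁻¹ = e (τs i)) (ht : ∀ i, t * e i * t⁻¹ = e (τt i))
    (hr : ∀ i, r * e i * r⁻¹ = e (τr i))
    (hsy : s * y * s⁻¹ = y ∨ s * y * s⁻¹ = y⁻¹) (hty : t * y * t⁻¹ = y ∨ t * y * t⁻¹ = y⁻¹)
    (hry : r * y * r⁻¹ = y ∨ r * y * r⁻¹ = y⁻¹)
    (qs : QOne σ s) (qt : QOne σ t) (qr : QOne σ r) (qst : QOne σ (s * t * (s * t)))
    (qsr : QOne σ (s * r)) (qtr : QOne σ (t * r))
    (hD16 : 16 ≤ Nat.card (Subgroup.closure (insert r ({s, t} : Set G)))) :
    ∃ U : Subgroup G, ¬ 2 ∣ U.index ∧ ∀ a ∈ ⁅U.comap σ, U.comap σ⁆, a ∈ σ.ker → a = 1 := by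
  -- basic facts on `e`
  have he0 : e 0 = 1 := by
    have h := hmul 0 0
    rw [xor_self_fin 0] at h
    exact mul_eq_left.mp h
  have hee : ∀ i, e i * e i = 1 := by
    intro i
    rw [hmul, xor_self_fin, he0]
  have heinv : ∀ i, (e i)⁻¹ = e i := fun i => inv_eq_of_mul_eq_one_right (hee i)
  have hinj : Function.Injective e := by
    intro i j hij
    apply xor_eq_zero_fin
    apply he1
    rw [← hmul, hij, hee]
  -- the subgroup `V`
  obtain ⟨V, hV⟩ : ∃ V : Subgroup G, ∀ x, x ∈ V ↔ ∃ i, e i = x :=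
    ⟨{ carrier := Set.range e
       mul_mem' := by
         rintro _ _ ⟨i, rfl⟩ ⟨j, rfl⟩
         exact ⟨i ^^^ j, (hmul i j).symm⟩
       one_mem' := ⟨0, he0⟩
       inv_mem' := by
         rintro _ ⟨i, rfl⟩
         exact ⟨i, (heinv i).symm⟩ }, fun x => Iff.rfl⟩
  have hcV : Nat.card V = 2 ^ 6 := by
    have h1 : Nat.card V = Nat.card (Fin 64) := by
      apply Nat.card_congr
      exact (Equiv.ofBijective (fun i : Fin 64 => (⟨e i, (hV _).2 ⟨i, rfl⟩⟩ : V))
        ⟨fun i j hij => hinj (congrArg Subtype.val hij),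
          fun x => by
            obtain ⟨i, hi⟩ := (hV x.1).1 x.2
            exact ⟨i, Subtype.ext hi⟩⟩).symm
    rw [h1, Nat.card_fin]
    norm_num
  -- relations in `G`
  have lift : ∀ x : G, x ∈ σ.range := fun x => MonoidHom.mem_range.2 (hσ x)
  have sq_of_q : ∀ x : G, QOne σ x → x * x = 1 := by
    intro x hx
    obtain ⟨g, hg⟩ := hσ x
    have := hx g hg
    rw [← hg, ← map_mul, this, map_one]
  have hss := sq_of_q s qs
  have htt := sq_of_q t qt
  have hrr := sq_of_q r qr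
  have hst4 : (s * t) ^ 4 = 1 := by
    have := sq_of_q _ qst
    rw [show (4 : ℕ) = 2 + 2 from rfl, pow_add, pow_two]
    exact this
  have inv_of_sq : ∀ x : G, x * x = 1 → x⁻¹ = x := fun x hx => inv_eq_of_mul_eq_one_right hx
  have hsr : s * r = r * s := by
    have h1 := inv_of_sq _ (sq_of_q _ qsr)
    rw [mul_inv_rev, inv_of_sq s hss, inv_of_sq r hrr] at h1
    exact h1.symm
  have htr : t * r = r * t := by
    have h1 := inv_of_sq _ (sq_of_q _ qtr)
    rw [mul_inv_rev, inv_of_sq t htt, inv_of_sq r hrr] at h1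
    exact h1.symm
  -- the subgroup `D`
  obtain ⟨D, hD⟩ : ∃ D : Subgroup G, D = Subgroup.closure (insert r ({s, t} : Set G)) := ⟨_, rfl⟩
  have hcD : Nat.card D = 2 ^ 4 := by
    obtain ⟨hfin, hle⟩ := card_closure_pair_le s t 4 (by norm_num) hss htt hst4
    obtain ⟨-, hle2⟩ := card_closure_insert_le ({s, t} : Set G) r hrr (by
      intro x hx
      rcases hx with rfl | hx
      · exact hsr
      · rw [Set.mem_singleton_iff.mp hx]; exact htr)
    rw [hD]
    have : Nat.card (Subgroup.closure (insert r ({s, t} : Set G))) ≤ 16 := by omega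
    norm_num
    omega
  obtain ⟨D₁, hD₁, hD₁k⟩ := exists_lift_dihedral_two (lift s) (lift t) (lift r) qs qt qr qst qsr qtr
    hD16
  rw [← hD] at hD₁
  -- `y` on `V`
  have hyV : ∀ v ∈ V, y * v * y⁻¹ ∈ V := by
    intro v hv
    obtain ⟨i, rfl⟩ := (hV v).1 hv
    exact (hV _).2 ⟨υ i, (hy i).symm⟩
  have hfix : ∀ v ∈ V, y * v * y⁻¹ = v → v = 1 := by
    intro v hv h
    obtain ⟨i, rfl⟩ := (hV v).1 hv
    rw [hy i] at h
    rw [hfpf i (hinj h), he0]
  -- `D` normalises `V`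
  have hDn : D ≤ Subgroup.normalizer (V : Set G) := by
    rw [hD, Subgroup.closure_le]
    have key : ∀ (x : G) (τ : Fin 64 → Fin 64), (∀ i, x * e i * x⁻¹ = e (τ i)) →
        x ∈ Subgroup.normalizer (V : Set G) := by
      intro x τ hτ
      apply Subgroup.mem_normalizer_fintype
      intro v hv
      obtain ⟨i, rfl⟩ := (hV v).1 hv
      exact (hV _).2 ⟨τ i, (hτ i).symm⟩
    intro x hx
    rcases hx with rfl | rfl | hx
    · exact key _ τr hr
    · exact key _ τs hs
    · rw [Set.mem_singleton_iff.mp hx]; exact key _ τt ht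
  have hDV : ∀ d ∈ D, ∀ v ∈ V, d * v * d⁻¹ ∈ V := by
    intro d hd v hv
    exact (Subgroup.mem_normalizer_iff.1 (hDn hd) v).1 hv
  -- `D` normalises `⟨y⟩`
  have hDy : ∀ d ∈ D, d * y * d⁻¹ = y ∨ d * y * d⁻¹ = y⁻¹ := by
    intro d hd
    rw [hD] at hd
    induction hd using Subgroup.closure_induction with
    | mem x hx =>
      rcases hx with rfl | rfl | hx
      · exact hry
      · exact hsy
      · rw [Set.mem_singleton_iff.mp hx]; exact hty
    | one => left; group
    | mul a b _ _ iha ihb =>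
      have e1 : a * b * y * (a * b)⁻¹ = a * (b * y * b⁻¹) * a⁻¹ := by group
      rw [e1]
      rcases ihb with hb | hb
      · rw [hb]; exact iha
      · rw [hb]
        have e2 : a * y⁻¹ * a⁻¹ = (a * y * a⁻¹)⁻¹ := by group
        rw [e2]
        rcases iha with ha | ha
        · right; rw [ha]
        · left; rw [ha, inv_inv]
    | inv a _ iha =>
      rcases iha with ha | ha
      · left
        calc a⁻¹ * y * a⁻¹⁻¹ = a⁻¹ * (a * y * a⁻¹) * a := by rw [ha, inv_inv]
          _ = y := by group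
      · right
        have e3 : a⁻¹ * y⁻¹ * a = y := by
          calc a⁻¹ * y⁻¹ * a = a⁻¹ * (a * y * a⁻¹) * a := by rw [ha]
            _ = y := by group
        have e5 : a⁻¹ * y * a = y⁻¹ := by
          calc a⁻¹ * y * a = (a⁻¹ * y⁻¹ * a)⁻¹ := by group
            _ = y⁻¹ := by rw [e3]
        rw [inv_inv]
        exact e5
  have hloc := two_local hc h2 V D y (fun v _ => lift v) (lift y)
    (fun v hv => by obtain ⟨i, rfl⟩ := (hV v).1 hv; exact hQ i) hy3 hyV hfix hDV hDy D₁ hD₁ hD₁k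
  have hVD := disjoint_of_fpf V D y hy3 hyV hfix hDy
  have hidx := not_two_dvd_index_of_split (⊤ : Subgroup G) V D le_top 6 4 hcV hcD hDn hVD
    (by rw [Subgroup.card_top]; exact hG)
  refine ⟨V ⊔ D, ?_, hloc⟩
  have e4 : ((V ⊔ D).subgroupOf (⊤ : Subgroup G)).index = (V ⊔ D).index := by
    have := Subgroup.relIndex_top_right (V ⊔ D)
    exact this
  rw [← e4]
  exact hidx

end Cfsg.Agent.Lib.Helper63.HeMTWO
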