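import Mathlib

/-!
# Semilinear structure from an irreducible cyclic normal subgroup (helper63)

If `α ∈ GL(V)` (`V` finite over `ZMod q`) acts irreducibly, then `F = (ZMod q)[α]` is a field,
`V` is one-dimensional over `F`, every `h` with `h α h⁻¹ = α ^ k` acts semilinearly and the
centralizer of `α` is commutative.
-/

set_option autoImplicit false

namespace Cfsg.Agent.Lib.Helper63.SemiLin

theorem shrink_field {V : Type*} [AddCommGroup V] {K : Type*} [Field K] [Finite K] (e₁ : V ≃+ K)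
    (P : (V → V) → Prop)
    (hP : ∀ f : V → V, P f → ∃ (a : K) (σ : K ≃+* K), ∀ v, e₁ (f v) = a * σ (e₁ v)) :
    ∃ (F : Type) (_ : Field F) (_ : Fintype F) (e : V ≃+ F),
      ∀ f : V → V, P f → ∃ (a : F) (σ : F ≃+* F), ∀ v, e (f v) = a * σ (e v) := by
  classical
  have hsm : Small.{0} K := Small.mk' (Finite.equivFin K)
  let r : Shrink.{0} K ≃+* K := Shrink.ringEquiv K
  have hfin : Finite (Shrink.{0} K) := Finite.of_equiv K (equivShrink K)
  refine ⟨Shrink.{0} K, inferInstance, Fintype.ofFinite _, e₁.trans r.symm.toAddEquiv, ?_⟩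
  intro f hf
  obtain ⟨a, σ, h⟩ := hP f hf
  refine ⟨r.symm a, r.trans (σ.trans r.symm), ?_⟩
  intro v
  show r.symm (e₁ (f v)) = r.symm a * r.symm (σ (r (r.symm (e₁ v))))
  rw [RingEquiv.apply_symm_apply, ← map_mul, h]

section
variable {q : ℕ} [Fact q.Prime] {V : Type*} [AddCommGroup V] [Module (ZMod q) V]

/-- the commutative algebra generated by an endomorphism -/
abbrev FA (α : Module.End (ZMod q) V) : Subalgebra (ZMod q) (Module.End (ZMod q) V) :=
  Algebra.adjoin (ZMod q) {α}

theorem FA_comm (α : Module.End (ZMod q) V) (x y : Module.End (ZMod q) V) (hx : x ∈ FA α)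
    (hy : y ∈ FA α) : x * y = y * x := by
  have hc := Algebra.isMulCommutative_adjoin (ZMod q) (s := {α}) (by
    intro a ha b hb; rw [Set.mem_singleton_iff] at ha hb; rw [ha, hb])
  have := hc.is_comm.comm (⟨x, hx⟩ : FA α) ⟨y, hy⟩
  exact congrArg Subtype.val this

theorem FA_commute_of_commute (α c : Module.End (ZMod q) V) (hc : c * α = α * c)
    (x : Module.End (ZMod q) V) (hx : x ∈ FA α) : c * x = x * c := by
  have h1 : FA α ≤ Subalgebra.centralizer (ZMod q) {c} := by
    apply Algebra.adjoin_le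
    intro y hy
    rw [Set.mem_singleton_iff] at hy
    subst hy
    rw [SetLike.mem_coe, Subalgebra.mem_centralizer_iff]
    intro g hg
    rw [Set.mem_singleton_iff] at hg
    subst hg
    exact hc
  have h2 := h1 hx
  rw [Subalgebra.mem_centralizer_iff] at h2
  exact h2 c rfl

variable (α : Module.End (ZMod q) V)
  (hirr : ∀ W : Submodule (ZMod q) V, (∀ v ∈ W, α v ∈ W) → W = ⊥ ∨ W = ⊤)
include hirr

theorem inj_of_ne_zero (x : Module.End (ZMod q) V) (hx : x ∈ FA α) (hx0 : x ≠ 0) :
    Function.Injective x := by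
  have hinv : ∀ v ∈ LinearMap.ker x, α v ∈ LinearMap.ker x := by
    intro v hv
    rw [LinearMap.mem_ker] at hv ⊢
    have h1 : x (α v) = α (x v) :=
      congrArg (fun f : Module.End (ZMod q) V => f v)
        (FA_comm α x α hx (Algebra.self_mem_adjoin_singleton _ α))
    rw [h1, hv, map_zero]
  rcases hirr _ hinv with h | h
  · exact LinearMap.ker_eq_bot.mp h
  · exfalso; apply hx0
    exact LinearMap.ker_eq_top.mp h

theorem ev_surj (v₀ : V) (hv₀ : v₀ ≠ 0) : ∀ v : V, ∃ x ∈ FA α, x v₀ = v := by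
  let W : Submodule (ZMod q) V :=
    { carrier := {v | ∃ x ∈ FA α, x v₀ = v}
      add_mem' := by
        rintro _ _ ⟨x, hx, rfl⟩ ⟨y, hy, rfl⟩
        exact ⟨x + y, add_mem hx hy, rfl⟩
      zero_mem' := ⟨0, zero_mem _, rfl⟩
      smul_mem' := by
        rintro c _ ⟨x, hx, rfl⟩
        exact ⟨c • x, Subalgebra.smul_mem _ hx c, rfl⟩ }
  have hW : ∀ v ∈ W, α v ∈ W := by
    rintro _ ⟨x, hx, rfl⟩
    exact ⟨α * x, mul_mem (Algebra.self_mem_adjoin_singleton _ α) hx, rfl⟩
  rcases hirr W hW with h | h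
  · exfalso; apply hv₀
    have : v₀ ∈ W := ⟨1, one_mem _, rfl⟩
    rw [h] at this; exact (Submodule.mem_bot _).mp this
  · intro v
    have : v ∈ W := by rw [h]; exact Submodule.mem_top
    exact this

theorem ev_inj (v₀ : V) (hv₀ : v₀ ≠ 0) (x y : Module.End (ZMod q) V) (hx : x ∈ FA α)
    (hy : y ∈ FA α) (h : x v₀ = y v₀) : x = y := by
  by_contra hne
  have h1 : x - y ≠ 0 := sub_ne_zero.mpr hne
  have h2 := inj_of_ne_zero α hirr (x - y) (sub_mem hx hy) h1
  apply hv₀
  apply h2
  rw [map_zero, LinearMap.sub_apply, h, sub_self]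

theorem mem_of_commute (v₀ : V) (hv₀ : v₀ ≠ 0) (c : Module.End (ZMod q) V)
    (hc : c * α = α * c) : c ∈ FA α := by
  obtain ⟨y, hy, hyv⟩ := ev_surj α hirr v₀ hv₀ (c v₀)
  have : c = y := by
    apply LinearMap.ext
    intro v
    obtain ⟨x, hx, rfl⟩ := ev_surj α hirr v₀ hv₀ v
    have h1 : c (x v₀) = x (c v₀) :=
      congrArg (fun f : Module.End (ZMod q) V => f v₀) (FA_commute_of_commute α c hc x hx)
    have h2 : x (y v₀) = y (x v₀) :=
      congrArg (fun f : Module.End (ZMod q) V => f v₀) (FA_comm α x y hx hy)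
    rw [h1, ← hyv, h2]
  rw [this]; exact hy

theorem FA_isField [Finite V] (v₀ : V) (hv₀ : v₀ ≠ 0) : IsField (FA α) where
  exists_pair_ne := by
    refine ⟨0, 1, ?_⟩
    intro h
    apply hv₀
    have h1 : (0 : Module.End (ZMod q) V) = 1 := congrArg Subtype.val h
    have h2 := congrArg (fun f : Module.End (ZMod q) V => f v₀) h1
    exact h2.symm
  mul_comm := fun x y => Subtype.ext (FA_comm α x y x.2 y.2)
  mul_inv_cancel := by
    intro x hx
    have hx0 : (x : Module.End (ZMod q) V) ≠ 0 := fun h => hx (Subtype.ext h)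
    have hinj := inj_of_ne_zero α hirr x x.2 hx0
    have hbij : Function.Bijective (x : Module.End (ZMod q) V) :=
      ⟨hinj, Finite.surjective_of_injective hinj⟩
    let xe : V ≃ₗ[ZMod q] V := LinearEquiv.ofBijective (x : Module.End (ZMod q) V) hbij
    have hxe : ∀ v, (x : Module.End (ZMod q) V) (xe.symm v) = v := fun v => xe.apply_symm_apply v
    have hcomm : (xe.symm : V →ₗ[ZMod q] V) * α = α * (xe.symm : V →ₗ[ZMod q] V) := by
      apply LinearMap.ext; intro v
      show xe.symm (α v) = α (xe.symm v)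
      apply hinj
      have h2 : (x : Module.End (ZMod q) V) (α (xe.symm v)) =
          α ((x : Module.End (ZMod q) V) (xe.symm v)) :=
        congrArg (fun f : Module.End (ZMod q) V => f (xe.symm v))
          (FA_comm α x α x.2 (Algebra.self_mem_adjoin_singleton _ α))
      rw [hxe, h2, hxe]
    refine ⟨⟨(xe.symm : V →ₗ[ZMod q] V), mem_of_commute α hirr v₀ hv₀ _ hcomm⟩, ?_⟩
    apply Subtype.ext
    apply LinearMap.ext; intro v
    show (x : Module.End (ZMod q) V) (xe.symm v) = v
    exact hxe v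

end

theorem semilinear {q : ℕ} [Fact q.Prime] {V : Type*} [AddCommGroup V] [Module (ZMod q) V]
    [Finite V] [Nontrivial V] (α : V ≃ₗ[ZMod q] V)
    (hirr : ∀ W : Submodule (ZMod q) V, (∀ v ∈ W, α v ∈ W) → W = ⊥ ∨ W = ⊤) :
    (∃ (F : Type) (_ : Field F) (_ : Fintype F) (e : V ≃+ F),
       ∀ f : V → V, (∃ h : V ≃ₗ[ZMod q] V, (∃ k : ℕ, h * α * h⁻¹ = α ^ k) ∧ f = h) →
         ∃ (a : F) (σ : F ≃+* F), ∀ v : V, e (f v) = a * σ (e v)) ∧
    (∀ c d : V ≃ₗ[ZMod q] V, c * α = α * c → d * α = α * d → c * d = d * c) := by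
  classical
  obtain ⟨v₀, hv₀⟩ := exists_ne (0 : V)
  obtain ⟨α', hα'⟩ : ∃ α' : Module.End (ZMod q) V, α' = (α : V →ₗ[ZMod q] V) := ⟨_, rfl⟩
  have hα'app : ∀ v, α' v = α v := fun v => by rw [hα']; rfl
  have hirr' : ∀ W : Submodule (ZMod q) V, (∀ v ∈ W, α' v ∈ W) → W = ⊥ ∨ W = ⊤ := by
    intro W hW
    exact hirr W (fun v hv => by rw [← hα'app]; exact hW v hv)
  have hfinE : Finite (Module.End (ZMod q) V) := DFunLike.finite (V →ₗ[ZMod q] V)
  have hfinF : Finite (FA α') := inferInstance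
  -- commuting elements
  have hcomm_mem : ∀ c : V ≃ₗ[ZMod q] V, c * α = α * c → (c : V →ₗ[ZMod q] V) ∈ FA α' := by
    intro c hc
    apply mem_of_commute α' hirr' v₀ hv₀
    apply LinearMap.ext; intro v
    show c (α' v) = α' (c v)
    rw [hα'app, hα'app]
    exact congrArg (fun f : V ≃ₗ[ZMod q] V => f v) hc
  refine ⟨?_, ?_⟩
  swap
  · intro c d hc hd
    have h1 := FA_comm α' _ _ (hcomm_mem c hc) (hcomm_mem d hd)
    apply LinearEquiv.ext; intro v
    exact congrArg (fun f : Module.End (ZMod q) V => f v) h1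
  -- the evaluation bijection
  let ev : FA α' →+ V :=
    { toFun := fun x => (x : Module.End (ZMod q) V) v₀
      map_zero' := rfl
      map_add' := fun x y => rfl }
  have hevbij : Function.Bijective ev := by
    refine ⟨?_, ?_⟩
    · intro x y h
      exact Subtype.ext (ev_inj α' hirr' v₀ hv₀ x y x.2 y.2 h)
    · intro v
      obtain ⟨x, hx, hxv⟩ := ev_surj α' hirr' v₀ hv₀ v
      exact ⟨⟨x, hx⟩, hxv⟩
  let evE : FA α' ≃+ V := AddEquiv.ofBijective ev hevbij
  have hevE : ∀ x : FA α', evE x = (x : Module.End (ZMod q) V) v₀ := fun x => rfl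
  -- semilinearity, stated in the subalgebra
  have key : ∀ h : V ≃ₗ[ZMod q] V, (∃ k : ℕ, h * α * h⁻¹ = α ^ k) →
      ∃ (a : FA α') (σ : FA α' ≃+* FA α'), ∀ v : V, evE.symm (h v) = a * σ (evE.symm v) := by
    rintro h ⟨k, hk⟩
    let cj : Module.End (ZMod q) V ≃ₐ[ZMod q] Module.End (ZMod q) V := h.conjAlgEquiv (ZMod q)
    have hcjapp : ∀ (x : Module.End (ZMod q) V) (v : V), cj x (h v) = h (x v) := by
      intro x v
      show h (x (h.symm (h v))) = h (x v)
      rw [LinearEquiv.symm_apply_apply]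
    have hcjα : cj α' = α' ^ k := by
      apply LinearMap.ext; intro v
      have h1 : cj α' v = h (α (h⁻¹ v)) := by
        show h (α' (h.symm v)) = _
        rw [hα'app]; rfl
      have h2 : (h * α * h⁻¹) v = h (α (h⁻¹ v)) := rfl
      have h3 : ∀ (m : ℕ) (w : V), (α' ^ m) w = (α ^ m) w := by
        intro m
        induction m with
        | zero => intro w; rfl
        | succ m ih =>
          intro w
          rw [pow_succ, pow_succ]
          show (α' ^ m) (α' w) = (α ^ m) (α w)
          rw [hα'app, ih]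
      rw [h1, ← h2, hk, h3]
    have hcj_mem : ∀ x ∈ FA α', cj x ∈ FA α' := by
      intro x hx
      have h1 : (cj : Module.End (ZMod q) V →ₐ[ZMod q] Module.End (ZMod q) V) x ∈
          (FA α').map (cj : Module.End (ZMod q) V →ₐ[ZMod q] Module.End (ZMod q) V) :=
        Subalgebra.mem_map.mpr ⟨x, hx, rfl⟩
      rw [AlgHom.map_adjoin, Set.image_singleton] at h1
      have h2 : Algebra.adjoin (ZMod q)
          {(cj : Module.End (ZMod q) V →ₐ[ZMod q] Module.End (ZMod q) V) α'} ≤ FA α' := by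
        apply Algebra.adjoin_le
        intro y hy
        rw [Set.mem_singleton_iff] at hy
        rw [hy]
        show cj α' ∈ FA α'
        rw [hcjα]
        exact pow_mem (Algebra.self_mem_adjoin_singleton _ α') k
      exact h2 h1
    let σf : FA α' →ₐ[ZMod q] FA α' :=
      ((cj : Module.End (ZMod q) V →ₐ[ZMod q] Module.End (ZMod q) V).comp (FA α').val).codRestrict
        (FA α') (fun x => hcj_mem x x.2)
    have hσf : ∀ x : FA α', ((σf x : FA α') : Module.End (ZMod q) V) = cj x := fun x => rfl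
    have hσinj : Function.Injective σf := by
      intro x y hxy
      have h1 : cj (x : Module.End (ZMod q) V) = cj y := by rw [← hσf, ← hσf, hxy]
      exact Subtype.ext (cj.injective h1)
    let σ : FA α' ≃+* FA α' :=
      RingEquiv.ofBijective (σf : FA α' →+* FA α') ⟨hσinj, Finite.surjective_of_injective hσinj⟩
    have hσ : ∀ x : FA α', ((σ x : FA α') : Module.End (ZMod q) V) = cj x := fun x => rfl
    refine ⟨evE.symm (h v₀), σ, ?_⟩
    intro v
    apply evE.injective
    rw [AddEquiv.apply_symm_apply, hevE]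
    obtain ⟨x, rfl⟩ := evE.surjective v
    rw [AddEquiv.symm_apply_apply]
    have h1 : (evE.symm (h v₀) : Module.End (ZMod q) V) v₀ = h v₀ := by
      rw [← hevE, AddEquiv.apply_symm_apply]
    have h2 : (evE.symm (h v₀) * σ x : FA α') = σ x * evE.symm (h v₀) :=
      Subtype.ext (FA_comm α' _ _ (evE.symm (h v₀)).2 (σ x).2)
    rw [h2]
    show h (evE x) = ((σ x : FA α') : Module.End (ZMod q) V)
      ((evE.symm (h v₀) : Module.End (ZMod q) V) v₀)
    rw [h1, hσ, hcjapp, hevE]
  -- the field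
  letI : Field (FA α') := (FA_isField α' hirr' v₀ hv₀).toField
  refine shrink_field evE.symm _ ?_
  rintro f ⟨h, hk, rfl⟩
  obtain ⟨a, σ, hσ⟩ := key h hk
  exact ⟨a, σ, hσ⟩

end Cfsg.Agent.Lib.Helper63.SemiLin
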