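import Mathlib
import Cfsg.Agent.Lib.Helper63.SemiLin
import Cfsg.Agent.Lib.Helper66.Cores
import Cfsg.Agent.S0044

/-!
# Tools for Huppert's theorem on solvable transitive linear groups (helper63)
-/

set_option autoImplicit false

namespace Cfsg.Agent.Lib.Helper63.Hup1

open Cfsg.Agent.Lib.Helper63.SemiLin

/-- semilinearity with respect to a commutative subalgebra all of whose nonzero elements are
injective and which is as big as `V` -/
theorem semilinear_sub {q : ℕ} [Fact q.Prime] {V : Type*} [AddCommGroup V] [Module (ZMod q) V]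
    [Finite V] [Nontrivial V] (B : Subalgebra (ZMod q) (Module.End (ZMod q) V))
    (hcomm : ∀ x ∈ B, ∀ y ∈ B, x * y = y * x)
    (hinj : ∀ x ∈ B, x ≠ 0 → Function.Injective x)
    (hcard : Nat.card V ≤ Nat.card B) :
    ∃ (F : Type) (_ : Field F) (_ : Fintype F) (e : V ≃+ F),
       ∀ f : V → V, (∃ h : V ≃ₗ[ZMod q] V,
          (∀ x ∈ B, h.conjAlgEquiv (ZMod q) x ∈ B) ∧ f = h) →
         ∃ (a : F) (σ : F ≃+* F), ∀ v : V, e (f v) = a * σ (e v) := by
  classical
  obtain ⟨v₀, hv₀⟩ := exists_ne (0 : V)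
  have hfinE : Finite (Module.End (ZMod q) V) := DFunLike.finite (V →ₗ[ZMod q] V)
  have hfinF : Finite B := inferInstance
  let ev : B →+ V :=
    { toFun := fun x => (x : Module.End (ZMod q) V) v₀
      map_zero' := rfl
      map_add' := fun x y => rfl }
  have hevinj : Function.Injective ev := by
    intro x y h
    by_contra hne
    have h1 : (x : Module.End (ZMod q) V) - y ≠ 0 :=
      sub_ne_zero.mpr (fun h' => hne (Subtype.ext h'))
    have h2 := hinj _ (sub_mem x.2 y.2) h1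
    apply hv₀
    apply h2
    rw [map_zero, LinearMap.sub_apply]
    exact sub_eq_zero.mpr h
  have hevbij : Function.Bijective ev := hevinj.bijective_of_nat_card_le hcard
  let evE : B ≃+ V := AddEquiv.ofBijective ev hevbij
  have hevE : ∀ x : B, evE x = (x : Module.End (ZMod q) V) v₀ := fun x => rfl
  have hBcomm : ∀ x y : B, x * y = y * x := fun x y => Subtype.ext (hcomm x x.2 y y.2)
  have key : ∀ h : V ≃ₗ[ZMod q] V, (∀ x ∈ B, h.conjAlgEquiv (ZMod q) x ∈ B) →
      ∃ (a : B) (σ : B ≃+* B), ∀ v : V, evE.symm (h v) = a * σ (evE.symm v) := by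
    intro h hcj_mem
    let cj : Module.End (ZMod q) V ≃ₐ[ZMod q] Module.End (ZMod q) V := h.conjAlgEquiv (ZMod q)
    have hcjapp : ∀ (x : Module.End (ZMod q) V) (v : V), cj x (h v) = h (x v) := by
      intro x v
      show h (x (h.symm (h v))) = h (x v)
      rw [LinearEquiv.symm_apply_apply]
    let σf : B →ₐ[ZMod q] B :=
      ((cj : Module.End (ZMod q) V →ₐ[ZMod q] Module.End (ZMod q) V).comp B.val).codRestrict
        B (fun x => hcj_mem x x.2)
    have hσf : ∀ x : B, ((σf x : B) : Module.End (ZMod q) V) = cj x := fun x => rfl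
    have hσinj : Function.Injective σf := by
      intro x y hxy
      have h1 : cj (x : Module.End (ZMod q) V) = cj y := by rw [← hσf, ← hσf, hxy]
      exact Subtype.ext (cj.injective h1)
    let σ : B ≃+* B :=
      RingEquiv.ofBijective (σf : B →+* B) ⟨hσinj, Finite.surjective_of_injective hσinj⟩
    have hσ : ∀ x : B, ((σ x : B) : Module.End (ZMod q) V) = cj x := fun x => rfl
    refine ⟨evE.symm (h v₀), σ, ?_⟩
    intro v
    apply evE.injective
    rw [AddEquiv.apply_symm_apply, hevE]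
    obtain ⟨x, rfl⟩ := evE.surjective v
    rw [AddEquiv.symm_apply_apply]
    have h1 : (evE.symm (h v₀) : Module.End (ZMod q) V) v₀ = h v₀ := by
      rw [← hevE, AddEquiv.apply_symm_apply]
    have h2 : (evE.symm (h v₀) * σ x : B) = σ x * evE.symm (h v₀) := hBcomm _ _
    rw [h2]
    show h (evE x) = ((σ x : B) : Module.End (ZMod q) V)
      ((evE.symm (h v₀) : Module.End (ZMod q) V) v₀)
    rw [h1, hσ, hcjapp, hevE]
  have hfield : IsField B :=
    { exists_pair_ne := by
        refine ⟨0, 1, ?_⟩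
        intro h
        apply hv₀
        have h1 : (0 : Module.End (ZMod q) V) = 1 := congrArg Subtype.val h
        have h2 := congrArg (fun f : Module.End (ZMod q) V => f v₀) h1
        exact h2.symm
      mul_comm := hBcomm
      mul_inv_cancel := by
        intro x hx
        have hx0 : (x : Module.End (ZMod q) V) ≠ 0 := fun h => hx (Subtype.ext h)
        have hxi := hinj x x.2 hx0
        have hmi : Function.Injective (fun y : B => x * y) := by
          intro y y' hyy
          apply Subtype.ext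
          apply LinearMap.ext
          intro v
          apply hxi
          have := congrArg (fun z : B => (z : Module.End (ZMod q) V) v) hyy
          exact this
        obtain ⟨y, hy⟩ := Finite.surjective_of_injective hmi 1
        exact ⟨y, hy⟩ }
  letI : Field B := hfield.toField
  refine shrink_field evE.symm _ ?_
  rintro f ⟨h, hk, rfl⟩
  obtain ⟨a, σ, hσ⟩ := key h hk
  exact ⟨a, σ, hσ⟩

section
variable {q : ℕ} [Fact q.Prime] {V : Type*} [AddCommGroup V] [Module (ZMod q) V]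
  {G : Type*} [Group G]

/-- `ρ` as a monoid hom into endomorphisms -/
def toEnd (ρ : G →* (V ≃ₗ[ZMod q] V)) : G →* Module.End (ZMod q) V where
  toFun g := (ρ g : V →ₗ[ZMod q] V)
  map_one' := by rw [map_one]; rfl
  map_mul' a b := by rw [map_mul]; rfl

theorem toEnd_apply (ρ : G →* (V ≃ₗ[ZMod q] V)) (g : G) (v : V) : toEnd ρ g v = ρ g v := rfl

theorem toEnd_inv_apply (ρ : G →* (V ≃ₗ[ZMod q] V)) (g : G) (v : V) :
    toEnd ρ g⁻¹ (toEnd ρ g v) = v := by
  have h : toEnd ρ g⁻¹ * toEnd ρ g = 1 := by rw [← map_mul, inv_mul_cancel, map_one]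
  exact congrArg (fun f : Module.End (ZMod q) V => f v) h

theorem toEnd_apply_inv (ρ : G →* (V ≃ₗ[ZMod q] V)) (g : G) (v : V) :
    toEnd ρ g (toEnd ρ g⁻¹ v) = v := by
  have h : toEnd ρ g * toEnd ρ g⁻¹ = 1 := by rw [← map_mul, mul_inv_cancel, map_one]
  exact congrArg (fun f : Module.End (ZMod q) V => f v) h

theorem toEnd_injective (ρ : G →* (V ≃ₗ[ZMod q] V)) (hρ : Function.Injective ρ) :
    Function.Injective (toEnd ρ) := by
  intro a b h
  apply hρ
  apply LinearEquiv.ext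
  intro v
  exact congrArg (fun f : Module.End (ZMod q) V => f v) h

theorem conj_toEnd (ρ : G →* (V ≃ₗ[ZMod q] V)) (g a : G) :
    (ρ g).conjAlgEquiv (ZMod q) (toEnd ρ a) = toEnd ρ (g * a * g⁻¹) := by
  apply LinearMap.ext
  intro v
  show ρ g (ρ a ((ρ g).symm v)) = ρ (g * a * g⁻¹) v
  rw [map_mul, map_mul, map_inv]
  rfl

/-- the algebra generated by the image of a subgroup -/
def BA (ρ : G →* (V ≃ₗ[ZMod q] V)) (A : Subgroup G) :
    Subalgebra (ZMod q) (Module.End (ZMod q) V) :=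
  Algebra.adjoin (ZMod q) (toEnd ρ '' (A : Set G))

theorem mem_BA (ρ : G →* (V ≃ₗ[ZMod q] V)) (A : Subgroup G) {a : G} (ha : a ∈ A) :
    toEnd ρ a ∈ BA ρ A :=
  Algebra.subset_adjoin ⟨a, ha, rfl⟩

theorem BA_comm (ρ : G →* (V ≃ₗ[ZMod q] V)) (A : Subgroup G)
    (hA : ∀ a ∈ A, ∀ b ∈ A, a * b = b * a) :
    ∀ x ∈ BA ρ A, ∀ y ∈ BA ρ A, x * y = y * x := by
  intro x hx y hy
  have hc := Algebra.isMulCommutative_adjoin (ZMod q) (s := toEnd ρ '' (A : Set G)) (by
    rintro _ ⟨a, ha, rfl⟩ _ ⟨b, hb, rfl⟩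
    rw [← map_mul, ← map_mul, hA a ha b hb])
  have := hc.is_comm.comm (⟨x, hx⟩ : BA ρ A) ⟨y, hy⟩
  exact congrArg Subtype.val this

theorem BA_conj (ρ : G →* (V ≃ₗ[ZMod q] V)) (A : Subgroup G) [hN : A.Normal] (g : G) :
    ∀ x ∈ BA ρ A, (ρ g).conjAlgEquiv (ZMod q) x ∈ BA ρ A := by
  intro x hx
  let cj : Module.End (ZMod q) V ≃ₐ[ZMod q] Module.End (ZMod q) V := (ρ g).conjAlgEquiv (ZMod q)
  have h1 : (cj : Module.End (ZMod q) V →ₐ[ZMod q] Module.End (ZMod q) V) x ∈
      (BA ρ A).map (cj : Module.End (ZMod q) V →ₐ[ZMod q] Module.End (ZMod q) V) :=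
    Subalgebra.mem_map.mpr ⟨x, hx, rfl⟩
  unfold BA at h1
  rw [AlgHom.map_adjoin] at h1
  have h2 : Algebra.adjoin (ZMod q)
      ((cj : Module.End (ZMod q) V →ₐ[ZMod q] Module.End (ZMod q) V) '' (toEnd ρ '' (A : Set G)))
        ≤ BA ρ A := by
    apply Algebra.adjoin_le
    rintro _ ⟨_, ⟨a, ha, rfl⟩, rfl⟩
    show cj (toEnd ρ a) ∈ BA ρ A
    have : cj (toEnd ρ a) = toEnd ρ (g * a * g⁻¹) := conj_toEnd ρ g a
    rw [this]
    exact mem_BA ρ A (hN.conj_mem a ha g)
  exact h2 h1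

theorem conj_apply (ρ : G →* (V ≃ₗ[ZMod q] V)) (g : G) (x : Module.End (ZMod q) V) (v : V) :
    (ρ g).conjAlgEquiv (ZMod q) x v = ρ g (x ((ρ g⁻¹) v)) := by
  show ρ g (x ((ρ g).symm v)) = ρ g (x ((ρ g⁻¹) v))
  rw [map_inv]
  rfl

/-- T1: the algebra generated by a normal abelian subgroup of a group transitive on the nonzero
vectors has no zero divisors -/
theorem BA_inj [Finite V] (ρ : G →* (V ≃ₗ[ZMod q] V))
    (htrans : ∀ v w : V, v ≠ 0 → w ≠ 0 → ∃ g : G, ρ g v = w)
    (A : Subgroup G) [hN : A.Normal] (hA : ∀ a ∈ A, ∀ b ∈ A, a * b = b * a) :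
    ∀ x ∈ BA ρ A, x ≠ 0 → Function.Injective x := by
  classical
  set B := BA ρ A with hB
  have hcomm := BA_comm ρ A hA
  -- simple cyclic module
  have step2 : ∀ v : V, v ≠ 0 → ∀ c ∈ B, c v ≠ 0 → ∃ d ∈ B, d (c v) = v := by
    by_cases hne : ∃ w : V, w ≠ 0
    swap
    · intro v hv
      exact absurd ⟨v, hv⟩ hne
    obtain ⟨w₁, hw₁⟩ := hne
    let orb : V → Set V := fun v => {w | ∃ c ∈ B, c v = w}
    obtain ⟨w₀, hw₀, hmin⟩ := Set.exists_min_image {v : V | v ≠ 0} (fun v => (orb v).ncard)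
      (Set.toFinite _) ⟨w₁, hw₁⟩
    have step1 : ∀ c ∈ B, c w₀ ≠ 0 → ∃ d ∈ B, d (c w₀) = w₀ := by
      intro c hc hcw
      have hsub : orb (c w₀) ⊆ orb w₀ := by
        rintro _ ⟨d, hd, rfl⟩
        exact ⟨d * c, mul_mem hd hc, rfl⟩
      have hle := hmin (c w₀) hcw
      have heq : orb (c w₀) = orb w₀ :=
        Set.eq_of_subset_of_ncard_le hsub hle (Set.toFinite _)
      have hmem : w₀ ∈ orb w₀ := ⟨1, one_mem _, rfl⟩
      rw [← heq] at hmem
      exact hmem
    intro v hv c hc hcv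
    obtain ⟨g, hg⟩ := htrans w₀ v hw₀ hv
    have hc' : (ρ g⁻¹).conjAlgEquiv (ZMod q) c ∈ B := BA_conj ρ A g⁻¹ c hc
    have hc'w : (ρ g⁻¹).conjAlgEquiv (ZMod q) c w₀ = ρ g⁻¹ (c v) := by
      rw [conj_apply, inv_inv, hg]
    have hne : (ρ g⁻¹).conjAlgEquiv (ZMod q) c w₀ ≠ 0 := by
      rw [hc'w]
      intro h0
      apply hcv
      have := congrArg (ρ g) h0
      rw [map_zero, map_inv] at this
      rw [← this]
      exact ((ρ g).apply_symm_apply (c v)).symm
    obtain ⟨d', hd', hd'w⟩ := step1 _ hc' hne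
    refine ⟨(ρ g).conjAlgEquiv (ZMod q) d', BA_conj ρ A g d' hd', ?_⟩
    rw [conj_apply, ← hc'w, hd'w, hg]
  intro b hb hb0
  rw [← LinearMap.ker_eq_bot, LinearMap.ker_eq_bot']
  intro w hbw
  by_contra hw
  obtain ⟨v, hv⟩ : ∃ v, b v ≠ 0 := by
    by_contra hall
    push Not at hall
    exact hb0 (LinearMap.ext hall)
  have hv0 : v ≠ 0 := fun h => hv (by rw [h, map_zero])
  have hu : b (v + w) = b v := by rw [map_add, hbw, add_zero]
  have hu0 : v + w ≠ 0 := fun h => hv (by rw [← hu, h, map_zero])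
  obtain ⟨d, hd, hdu⟩ := step2 (v + w) hu0 b hb (by rw [hu]; exact hv)
  rw [hu] at hdu
  -- w = (d b - 1) v
  have hw' : (d * b - 1) v = w := by
    rw [LinearMap.sub_apply, Module.End.mul_apply, hdu, Module.End.one_apply, add_sub_cancel_left]
  have hc1 : d * b - 1 ∈ B := sub_mem (mul_mem hd hb) (one_mem _)
  obtain ⟨d', hd', hd'w⟩ := step2 v hv0 (d * b - 1) hc1 (by rw [hw']; exact hw)
  rw [hw'] at hd'w
  apply hv
  rw [← hd'w]
  have : b (d' w) = d' (b w) := congrArg (fun f : Module.End (ZMod q) V => f w) (hcomm b hb d' hd')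
  rw [this, hbw, map_zero]

/-- a normal abelian subgroup generating a big algebra forces semilinearity -/
theorem sl_of_abelian [Finite V] [Nontrivial V] (ρ : G →* (V ≃ₗ[ZMod q] V))
    (htrans : ∀ v w : V, v ≠ 0 → w ≠ 0 → ∃ g : G, ρ g v = w)
    (A : Subgroup G) [hN : A.Normal] (hA : ∀ a ∈ A, ∀ b ∈ A, a * b = b * a)
    (hbig : Nat.card V ≤ Nat.card (BA ρ A)) :
    ∃ (F : Type) (_ : Field F) (_ : Fintype F) (e : V ≃+ F),
        ∀ g : G, ∃ (a : F) (σ : F ≃+* F), ∀ v : V, e (ρ g v) = a * σ (e v) := by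
  obtain ⟨F, i1, i2, e, he⟩ := semilinear_sub (BA ρ A) (BA_comm ρ A hA) (BA_inj ρ htrans A hA) hbig
  refine ⟨F, i1, i2, e, ?_⟩
  intro g
  exact he (fun v => ρ g v) ⟨ρ g, BA_conj ρ A g, rfl⟩

/-- evaluation at a nonzero vector is injective on the algebra of a normal abelian subgroup -/
theorem BA_card_le [Finite V] (ρ : G →* (V ≃ₗ[ZMod q] V))
    (htrans : ∀ v w : V, v ≠ 0 → w ≠ 0 → ∃ g : G, ρ g v = w)
    (A : Subgroup G) [hN : A.Normal] (hA : ∀ a ∈ A, ∀ b ∈ A, a * b = b * a)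
    (v₀ : V) (hv₀ : v₀ ≠ 0) :
    Function.Injective (fun x : BA ρ A => (x : Module.End (ZMod q) V) v₀) := by
  intro x y h
  by_contra hne
  have h1 : (x : Module.End (ZMod q) V) - y ≠ 0 :=
    sub_ne_zero.mpr (fun h' => hne (Subtype.ext h'))
  have h2 := BA_inj ρ htrans A hA _ (sub_mem x.2 y.2) h1
  apply hv₀
  apply h2
  rw [map_zero, LinearMap.sub_apply]
  exact sub_eq_zero.mpr h

/-- an irreducible element in a normal abelian subgroup makes its algebra big -/
theorem BA_big_of_irr [Finite V] (ρ : G →* (V ≃ₗ[ZMod q] V)) (A : Subgroup G) (a : G) (ha : a ∈ A)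
    (hirr : ∀ W : Submodule (ZMod q) V, (∀ v ∈ W, ρ a v ∈ W) → W = ⊥ ∨ W = ⊤) :
    Nat.card V ≤ Nat.card (BA ρ A) := by
  have hfinE : Finite (Module.End (ZMod q) V) := DFunLike.finite (V →ₗ[ZMod q] V)
  by_cases hne : ∃ v₀ : V, v₀ ≠ 0
  swap
  · push Not at hne
    have : Subsingleton V := ⟨fun a b => by rw [hne a, hne b]⟩
    rw [Nat.card_unique]
    exact Nat.card_pos
  obtain ⟨v₀, hv₀⟩ := hne
  have hle : FA (toEnd ρ a) ≤ BA ρ A := by
    apply Algebra.adjoin_le
    intro y hy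
    rw [Set.mem_singleton_iff] at hy
    rw [hy]
    exact mem_BA ρ A ha
  apply Nat.card_le_card_of_surjective (fun x : BA ρ A => (x : Module.End (ZMod q) V) v₀)
  intro v
  obtain ⟨x, hx, hxv⟩ := ev_surj (toEnd ρ a) hirr v₀ hv₀ v
  exact ⟨⟨x, hle hx⟩, hxv⟩

end

/-- a free action of a finite group: the order divides the number of points -/
theorem card_dvd_of_free {H : Type*} [Group H] [Finite H] {X : Type*} [MulAction H X] [Finite X]
    (hfree : ∀ (h : H) (x : X), h • x = x → h = 1) : Nat.card H ∣ Nat.card X := by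
  classical
  have e := MulAction.selfEquivSigmaOrbitsQuotientStabilizer' H X
    (φ := Quotient.out) Quotient.out_eq'
  letI : Fintype (Quotient (MulAction.orbitRel H X)) := Fintype.ofFinite _
  rw [Nat.card_congr e, Nat.card_sigma]
  apply Finset.dvd_sum
  intro ω _
  have hstab : MulAction.stabilizer H (Quotient.out ω) = ⊥ := by
    rw [eq_bot_iff]
    intro h hh
    rw [MulAction.mem_stabilizer_iff] at hh
    rw [Subgroup.mem_bot]
    exact hfree h _ hh
  rw [hstab]
  have : Nat.card (H ⧸ (⊥ : Subgroup H)) = Nat.card H := by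
    have := Subgroup.index_bot (G := H)
    rw [Subgroup.index] at this
    exact this
  rw [this]

/-- bounding a relative index by an injection-like map -/
theorem relIndex_le_of_inj {G : Type*} [Group G] (K H : Subgroup G) {β : Type*} [Finite β]
    (f : G → β) (hf : ∀ a ∈ H, ∀ b ∈ H, f a = f b → a⁻¹ * b ∈ K) :
    K.relIndex H ≤ Nat.card β := by
  rw [Subgroup.relIndex, Subgroup.index]
  apply Nat.card_le_card_of_injective (fun x : H ⧸ K.subgroupOf H => f (Quotient.out x : H))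
  intro x y hxy
  have h1 := hf _ (Quotient.out x).2 _ (Quotient.out y).2 hxy
  have h2 : ((Quotient.out x : H) : H ⧸ K.subgroupOf H) = (Quotient.out y : H) := by
    rw [QuotientGroup.eq]
    exact h1
  rw [QuotientGroup.out_eq', QuotientGroup.out_eq'] at h2
  exact h2

/-- an element of prime power order centralizing all normal subgroups of prime power order
lies in a normal `p`-subgroup -/
theorem mem_normal_pgroup {G : Type*} [Group G] [Finite G] (hsol : Group.IsSolvable G) (p : ℕ)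
    [Fact p.Prime] (x : G) (k : ℕ) (hx : orderOf x = p ^ k)
    (h : ∀ (r : ℕ) [Fact r.Prime] (N : Subgroup G), N.Normal → IsPGroup r N →
      ∀ y ∈ N, y * x = x * y) :
    ∃ N : Subgroup G, N.Normal ∧ IsPGroup p N ∧ x ∈ N := by
  haveI := hsol
  have hnorm : ∀ r : ℕ, (Cfsg.pCore r G).Normal := by
    intro r
    unfold Cfsg.pCore
    exact Subgroup.sSup_normal _ (fun H hH => hH.1)
  have hle : Cfsg.fittingSubgroup G ≤ Subgroup.centralizer {x} := by
    rw [Cfsg.Agent.Lib.Helper66.fitting_eq_iSup_pCore]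
    apply iSup_le
    intro r
    apply iSup_le
    intro hr
    haveI : Fact r.Prime := ⟨hr⟩
    intro y hy
    rw [Subgroup.mem_centralizer_iff]
    intro z hz
    rw [Set.mem_singleton_iff] at hz
    subst hz
    exact (h r (Cfsg.pCore r G) (hnorm r) (Cfsg.Agent.Lib.Helper66.isPGroup_pCore r) y hy).symm
  have hxc : x ∈ Subgroup.centralizer (Cfsg.fittingSubgroup G : Set G) := by
    rw [Subgroup.mem_centralizer_iff]
    intro y hy
    have := hle hy
    rw [Subgroup.mem_centralizer_iff] at this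
    exact (this x rfl).symm
  have hxF := Cfsg.Agent.S0044.result hxc
  exact ⟨Cfsg.pCore p G, hnorm p, Cfsg.Agent.Lib.Helper66.isPGroup_pCore p,
    Cfsg.Agent.Lib.Helper66.mem_pCore_of_mem_fitting hxF hx⟩

end Cfsg.Agent.Lib.Helper63.Hup1
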