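import Mathlib

/-!
# Abstract group theory for Huppert's theorem (helper63)
-/

set_option autoImplicit false

namespace Cfsg.Agent.Lib.Helper63.Hup3

universe u

/-- in a cyclic `ℓ`-group every nontrivial subgroup contains the subgroup of order `ℓ` -/
theorem cyc_pow {G : Type*} [Group G] (h : G) (ℓ b : ℕ) (hℓ : ℓ.Prime) (hb : 1 ≤ b)
    (hord : orderOf h = ℓ ^ b) :
    ∀ x ∈ Subgroup.zpowers h, x ≠ 1 → h ^ ℓ ^ (b - 1) ∈ Subgroup.zpowers x := by
  intro x hx hx1
  rw [Subgroup.mem_zpowers_iff] at hx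
  obtain ⟨k, rfl⟩ := hx
  have hpos : 0 < ℓ ^ b := pow_pos hℓ.pos b
  obtain ⟨j, hj⟩ : ∃ j : ℕ, h ^ k = h ^ j := by
    refine ⟨(k % ((ℓ ^ b : ℕ) : ℤ)).toNat, ?_⟩
    rw [← zpow_natCast, Int.toNat_of_nonneg (Int.emod_nonneg _ (by exact_mod_cast hpos.ne')),
      ← hord, zpow_mod_orderOf]
  rw [hj] at hx1 ⊢
  have hj0 : j ≠ 0 := by rintro rfl; exact hx1 (pow_zero h)
  obtain ⟨s, u, hu, hju⟩ := Nat.exists_eq_pow_mul_and_not_dvd hj0 ℓ hℓ.ne_one
  have hsb : s < b := by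
    by_contra hsb
    push Not at hsb
    apply hx1
    rw [hju, ← orderOf_dvd_iff_pow_eq_one, hord]
    exact Dvd.dvd.mul_right (pow_dvd_pow ℓ hsb) u
  have hcop : Nat.Coprime u ℓ := ((Nat.Prime.coprime_iff_not_dvd hℓ).mpr hu).symm
  obtain ⟨m, -, hm⟩ := Nat.exists_mul_mod_eq_one_of_coprime hcop hℓ.one_lt
  rw [Subgroup.mem_zpowers_iff]
  refine ⟨((ℓ ^ (b - 1 - s) * m : ℕ) : ℤ), ?_⟩
  rw [zpow_natCast, ← pow_mul, hju]
  have he : ℓ ^ s * u * (ℓ ^ (b - 1 - s) * m) = ℓ ^ (b - 1) * (u * m) := by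
    have : ℓ ^ (b - 1) = ℓ ^ s * ℓ ^ (b - 1 - s) := by rw [← pow_add]; congr 1; omega
    rw [this]; ring
  rw [he]
  have hum : u * m = ℓ * (u * m / ℓ) + 1 := by
    have := Nat.div_add_mod (u * m) ℓ
    omega
  rw [hum, mul_add, mul_one, pow_add, ← mul_assoc, ← pow_succ]
  have hb' : b - 1 + 1 = b := by omega
  rw [hb', pow_mul, ← hord, pow_orderOf_eq_one, one_pow, one_mul]

/-- a group of class two with cyclic commutator `r`-subgroup has central index a square -/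
theorem sq_index : ∀ (n : ℕ) (P : Type u) [Group P] [Finite P], Nat.card P = n →
    ∀ (r : ℕ), r.Prime → ∀ C : Subgroup P, C ≤ Subgroup.center P → IsCyclic C → IsPGroup r C →
    (∀ x y : P, x * y * x⁻¹ * y⁻¹ ∈ C) → ∃ k, (Subgroup.center P).index = r ^ (2 * k) := by
  intro n
  induction n using Nat.strong_induction_on with
  | _ n ih =>
  intro P _ _ hn r hr C hCZ hCcyc hCp hcomm
  classical
  haveI : Fact r.Prime := ⟨hr⟩
  by_cases hab : ∀ x y : P, x * y = y * x
  · refine ⟨0, ?_⟩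
    have : Subgroup.center P = ⊤ := by
      rw [eq_top_iff]; intro x _; rw [Subgroup.mem_center_iff]; intro y; exact hab y x
    rw [this, Subgroup.index_top]; rfl
  push Not at hab
  obtain ⟨x₁, y₁, hxy₁⟩ := hab
  obtain ⟨⟨x₀, y₀⟩, hmax⟩ :=
    Finite.exists_max (fun p : P × P => orderOf (p.1 * p.2 * p.1⁻¹ * p.2⁻¹))
  obtain ⟨c₀, hc₀⟩ : ∃ c₀ : P, c₀ = x₀ * y₀ * x₀⁻¹ * y₀⁻¹ := ⟨_, rfl⟩
  have hc₀C : c₀ ∈ C := hc₀ ▸ hcomm x₀ y₀
  have hcentral : ∀ c ∈ C, ∀ y : P, y * c = c * y := by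
    intro c hc y
    have := hCZ hc
    rw [Subgroup.mem_center_iff] at this
    exact this y
  obtain ⟨e, he⟩ : ∃ e : ℕ, e = orderOf c₀ := ⟨_, rfl⟩
  have hepos : 0 < e := he ▸ orderOf_pos c₀
  have hmax' : ∀ x y : P, orderOf (x * y * x⁻¹ * y⁻¹) ≤ e := by
    intro x y
    have := hmax (x, y)
    rw [he, hc₀]
    exact this
  obtain ⟨k2, hk2⟩ := (IsPGroup.iff_orderOf.mp hCp) ⟨c₀, hc₀C⟩
  have hk2' : e = r ^ k2 := by rw [he, ← hk2]; exact (Subgroup.orderOf_coe (⟨c₀, hc₀C⟩ : C))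
  have hc₀e : c₀ ^ e = 1 := he ▸ pow_orderOf_eq_one c₀
  -- all commutators lie in zpowers c₀
  have hall : ∀ x y : P, x * y * x⁻¹ * y⁻¹ ∈ Subgroup.zpowers c₀ := by
    intro x y
    obtain ⟨c, hc⟩ : ∃ c : P, c = x * y * x⁻¹ * y⁻¹ := ⟨_, rfl⟩
    rw [← hc]
    have hcC : c ∈ C := hc ▸ hcomm x y
    have hle : orderOf c ≤ e := hc ▸ hmax' x y
    obtain ⟨k1, hk1⟩ := (IsPGroup.iff_orderOf.mp hCp) ⟨c, hcC⟩
    have hk1' : orderOf c = r ^ k1 := by rw [← hk1]; exact (Subgroup.orderOf_coe (⟨c, hcC⟩ : C))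
    have hdvd : orderOf c ∣ e := by
      rw [hk1', hk2']
      apply pow_dvd_pow
      rw [hk1', hk2'] at hle
      exact (Nat.pow_le_pow_iff_right hr.one_lt).mp hle
    have hce : c ^ e = 1 := orderOf_dvd_iff_pow_eq_one.mp hdvd
    haveI : Fintype C := Fintype.ofFinite C
    have hcount := IsCyclic.card_pow_eq_one_le (α := C) hepos
    let c₀' : C := ⟨c₀, hc₀C⟩
    have hc₀'e : c₀' ^ e = 1 := Subtype.ext hc₀e
    have hTS : (Finset.univ.filter (fun a : C => a ∈ Subgroup.zpowers c₀')) ⊆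
        (Finset.univ.filter (fun a : C => a ^ e = 1)) := by
      intro a ha
      rw [Finset.mem_filter] at ha ⊢
      refine ⟨Finset.mem_univ _, ?_⟩
      obtain ⟨k, rfl⟩ := Subgroup.mem_zpowers_iff.mp ha.2
      rw [← zpow_natCast, ← zpow_mul, mul_comm, zpow_mul, zpow_natCast, hc₀'e, one_zpow]
    have hTcard : (Finset.univ.filter (fun a : C => a ∈ Subgroup.zpowers c₀')).card = e := by
      rw [← Fintype.card_subtype]
      have h1 : Fintype.card {a : C // a ∈ Subgroup.zpowers c₀'} =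
          Nat.card (Subgroup.zpowers c₀') := Nat.card_eq_fintype_card.symm
      rw [h1, Nat.card_zpowers, he]
      exact (Subgroup.orderOf_coe c₀').symm
    have hST := Finset.eq_of_subset_of_card_le hTS (by rw [hTcard]; exact hcount)
    have hcS : (⟨c, hcC⟩ : C) ∈ (Finset.univ.filter (fun a : C => a ^ e = 1)) := by
      rw [Finset.mem_filter]
      exact ⟨Finset.mem_univ _, Subtype.ext hce⟩
    rw [← hST, Finset.mem_filter] at hcS
    obtain ⟨k, hk⟩ := Subgroup.mem_zpowers_iff.mp hcS.2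
    rw [Subgroup.mem_zpowers_iff]
    refine ⟨k, ?_⟩
    have := congrArg Subtype.val hk
    simpa using this
  have hc₀ne : c₀ ≠ 1 := by
    intro h1
    have h2 : orderOf (x₁ * y₁ * x₁⁻¹ * y₁⁻¹) ≤ e := hmax' x₁ y₁
    rw [he, h1, orderOf_one] at h2
    have h3 : x₁ * y₁ * x₁⁻¹ * y₁⁻¹ = 1 := by
      have := orderOf_pos (x₁ * y₁ * x₁⁻¹ * y₁⁻¹)
      exact orderOf_eq_one_iff.mp (by omega)
    apply hxy₁
    have : x₁ * y₁ = (x₁ * y₁ * x₁⁻¹ * y₁⁻¹) * (y₁ * x₁) := by group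
    rw [this, h3, one_mul]
  have he1 : 1 < e := by
    rcases Nat.lt_or_ge 1 e with h | h
    · exact h
    · exfalso; apply hc₀ne; apply orderOf_eq_one_iff.mp; omega
  have hmulc : ∀ (x u v : P), (u * v) * x * (u * v)⁻¹ * x⁻¹ =
      (u * x * u⁻¹ * x⁻¹) * (v * x * v⁻¹ * x⁻¹) := by
    intro x u v
    have h1 := hcentral _ (hcomm v x) u
    have h2 : (u * v) * x * (u * v)⁻¹ * x⁻¹ =
        (u * (v * x * v⁻¹ * x⁻¹)) * (x * u⁻¹ * x⁻¹) := by group
    rw [h2, h1]
    have h3 := hcentral _ (hcomm v x) (u * x * u⁻¹ * x⁻¹)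
    rw [h3]; group
  let φ : P → P →* Subgroup.zpowers c₀ := fun x =>
    MonoidHom.mk' (fun u => ⟨u * x * u⁻¹ * x⁻¹, hall u x⟩) (by
      intro u v; apply Subtype.ext; exact hmulc x u v)
  have hφ : ∀ x u : P, ((φ x u : Subgroup.zpowers c₀) : P) = u * x * u⁻¹ * x⁻¹ := fun x u => rfl
  let ψ : P →* Subgroup.zpowers c₀ × Subgroup.zpowers c₀ := (φ x₀).prod (φ y₀)
  let c₀z : Subgroup.zpowers c₀ := ⟨c₀, Subgroup.mem_zpowers c₀⟩
  have hψx : ψ x₀ = (1, c₀z) := by
    apply Prod.ext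
    · apply Subtype.ext
      show x₀ * x₀ * x₀⁻¹ * x₀⁻¹ = 1
      group
    · apply Subtype.ext
      show x₀ * y₀ * x₀⁻¹ * y₀⁻¹ = c₀
      exact hc₀.symm
  have hψy : ψ y₀ = (c₀z⁻¹, 1) := by
    apply Prod.ext
    · apply Subtype.ext
      show y₀ * x₀ * y₀⁻¹ * x₀⁻¹ = c₀⁻¹
      rw [hc₀]; group
    · apply Subtype.ext
      show y₀ * y₀ * y₀⁻¹ * y₀⁻¹ = 1
      group
  have hψsurj' : ∀ st : Subgroup.zpowers c₀ × Subgroup.zpowers c₀,
      ∃ a b : ℤ, ψ (y₀ ^ (-a) * x₀ ^ b) = st := by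
    rintro ⟨⟨s, hs⟩, ⟨t, ht⟩⟩
    obtain ⟨a, ha⟩ := Subgroup.mem_zpowers_iff.mp hs
    obtain ⟨b, hb⟩ := Subgroup.mem_zpowers_iff.mp ht
    refine ⟨a, b, ?_⟩
    rw [map_mul, map_zpow, map_zpow, hψx, hψy]
    apply Prod.ext
    · apply Subtype.ext
      simp
      exact ha
    · apply Subtype.ext
      simp
      exact hb
  have hψsurj : Function.Surjective ψ := by
    intro st
    obtain ⟨a, b, hab⟩ := hψsurj' st
    exact ⟨_, hab⟩
  have hker : ∀ u : P, u ∈ ψ.ker ↔ (u * x₀ = x₀ * u ∧ u * y₀ = y₀ * u) := by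
    intro u
    rw [MonoidHom.mem_ker]
    constructor
    · intro h
      have h1 := congrArg (fun p : Subgroup.zpowers c₀ × Subgroup.zpowers c₀ => (p.1 : P)) h
      have h2 := congrArg (fun p : Subgroup.zpowers c₀ × Subgroup.zpowers c₀ => (p.2 : P)) h
      simp only [Prod.fst_one, Prod.snd_one, OneMemClass.coe_one] at h1 h2
      have h1' : u * x₀ * u⁻¹ * x₀⁻¹ = 1 := h1
      have h2' : u * y₀ * u⁻¹ * y₀⁻¹ = 1 := h2
      constructor
      · have : u * x₀ = (u * x₀ * u⁻¹ * x₀⁻¹) * (x₀ * u) := by group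
        rw [this, h1', one_mul]
      · have : u * y₀ = (u * y₀ * u⁻¹ * y₀⁻¹) * (y₀ * u) := by group
        rw [this, h2', one_mul]
    · rintro ⟨h1, h2⟩
      apply Prod.ext
      · apply Subtype.ext
        show u * x₀ * u⁻¹ * x₀⁻¹ = 1
        rw [h1]; group
      · apply Subtype.ext
        show u * y₀ * u⁻¹ * y₀⁻¹ = 1
        rw [h2]; group
  have hindex : ψ.ker.index = e * e := by
    rw [Subgroup.index_ker, MonoidHom.range_eq_top.mpr hψsurj, Subgroup.card_top, Nat.card_prod,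
      Nat.card_zpowers, ← he]
  have hZle : Subgroup.center P ≤ ψ.ker := by
    intro z hz
    rw [Subgroup.mem_center_iff] at hz
    rw [hker]
    exact ⟨(hz x₀).symm, (hz y₀).symm⟩
  have hcenter : Subgroup.center ψ.ker = (Subgroup.center P).subgroupOf ψ.ker := by
    ext u
    rw [Subgroup.mem_subgroupOf, Subgroup.mem_center_iff, Subgroup.mem_center_iff]
    constructor
    · intro hu v
      obtain ⟨a, b, hab⟩ := hψsurj' (ψ v)
      have hvw : v * (y₀ ^ (-a) * x₀ ^ b)⁻¹ ∈ ψ.ker := by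
        rw [MonoidHom.mem_ker, map_mul, map_inv, hab, mul_inv_cancel]
      have hu1 := hu ⟨_, hvw⟩
      have hu1' : (v * (y₀ ^ (-a) * x₀ ^ b)⁻¹) * (u : P) = u * (v * (y₀ ^ (-a) * x₀ ^ b)⁻¹) :=
        congrArg Subtype.val hu1
      have hux := ((hker u).mp u.2)
      have hcx : Commute (u : P) x₀ := hux.1
      have hcy : Commute (u : P) y₀ := hux.2
      have hcw : Commute (u : P) (y₀ ^ (-a) * x₀ ^ b) :=
        (hcy.zpow_right _).mul_right (hcx.zpow_right _)
      have hcv : Commute (u : P) (v * (y₀ ^ (-a) * x₀ ^ b)⁻¹) := hu1'.symm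
      have := hcv.mul_right hcw
      rw [inv_mul_cancel_right] at this
      exact this.eq.symm
    · intro hu v
      apply Subtype.ext
      exact hu v
  have hcardlt : Nat.card ψ.ker < n := by
    have h1 := Subgroup.card_mul_index ψ.ker
    rw [hindex, hn] at h1
    have h2 : 0 < Nat.card ψ.ker := Nat.card_pos
    have h3 : 1 < e * e := by nlinarith
    calc Nat.card ψ.ker = Nat.card ψ.ker * 1 := (mul_one _).symm
      _ < Nat.card ψ.ker * (e * e) := (Nat.mul_lt_mul_left h2).mpr h3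
      _ = n := h1
  obtain ⟨k, hk⟩ := ih (Nat.card ψ.ker) hcardlt ψ.ker rfl r hr (C.subgroupOf ψ.ker)
    (by
      intro c hc
      rw [Subgroup.mem_subgroupOf] at hc
      rw [hcenter, Subgroup.mem_subgroupOf]
      exact hCZ hc)
    ((Subgroup.subgroupOfEquivOfLe (hCZ.trans hZle)).isCyclic.mpr hCcyc)
    hCp.comap_subtype
    (by
      intro x y
      rw [Subgroup.mem_subgroupOf]
      exact hcomm x y)
  refine ⟨k + k2, ?_⟩
  rw [← Subgroup.relIndex_mul_index hZle, hindex, Subgroup.relIndex, ← hcenter, hk, hk2']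
  ring

/-- the minimal subgroup of an `r`-group on which an `ℓ`-element acts nontrivially -/
theorem minP {G : Type*} [Group G] [Finite G] (ℓ r b : ℕ) (hℓ : ℓ.Prime) (hr : r.Prime)
    (hne : r ≠ ℓ) (hb : 1 ≤ b) (h : G) (hord : orderOf h = ℓ ^ b) (R : Subgroup G)
    (hR : IsPGroup r R) (hnorm : ∀ x ∈ R, h * x * h⁻¹ ∈ R) (g : G) (hg : g = h ^ ℓ ^ (b - 1))
    (hnc : ∃ x ∈ R, x * g ≠ g * x) :
    ∃ P : Subgroup G, P ≤ R ∧ (∀ y ∈ Subgroup.zpowers h, ∀ x ∈ P, y * x * y⁻¹ ∈ P) ∧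
      (∃ x ∈ P, x * g ≠ g * x) ∧
      (∀ d ∈ P, d * g = g * d → ∀ x ∈ P, d * x = x * d) ∧
      (∀ x ∈ P, ∀ y ∈ P, (x * y * x⁻¹ * y⁻¹) * g = g * (x * y * x⁻¹ * y⁻¹)) ∧
      (∀ y ∈ Subgroup.zpowers h, y ≠ 1 → ∀ x ∈ P,
        (x⁻¹ * (y * x * y⁻¹)) * g = g * (x⁻¹ * (y * x * y⁻¹)) → x * g = g * x) ∧
      ((∀ x ∈ P, (∀ y ∈ P, x * y = y * x) → x * g = g * x) ∨
        ((∀ x ∈ P, ∀ y ∈ P, x * y = y * x) ∧ ∀ x ∈ P, x * g = g * x → x = 1)) := by
  classical
  haveI : Fact r.Prime := ⟨hr⟩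
  have hpos : 0 < ℓ ^ b := pow_pos hℓ.pos b
  have hgz : g ∈ Subgroup.zpowers h := hg ▸ Subgroup.pow_mem _ (Subgroup.mem_zpowers h) _
  have hgℓ : g ^ ℓ = 1 := by
    rw [hg, ← pow_mul, ← pow_succ]
    have : b - 1 + 1 = b := by omega
    rw [this, ← hord, pow_orderOf_eq_one]
  have hnat : ∀ (y : G) (k : ℤ), ∃ j : ℕ, y ^ k = y ^ j := by
    intro y k
    refine ⟨(k % (orderOf y : ℤ)).toNat, ?_⟩
    rw [← zpow_natCast, Int.toNat_of_nonneg
      (Int.emod_nonneg _ (by exact_mod_cast (orderOf_pos y).ne')), zpow_mod_orderOf]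
  have hinvz : ∀ Q : Subgroup G, (∀ x ∈ Q, h * x * h⁻¹ ∈ Q) →
      ∀ y ∈ Subgroup.zpowers h, ∀ x ∈ Q, y * x * y⁻¹ ∈ Q := by
    intro Q hQ y hy x hx
    obtain ⟨k, rfl⟩ := Subgroup.mem_zpowers_iff.mp hy
    obtain ⟨j, hj⟩ := hnat h k
    rw [hj]
    clear hj
    induction j with
    | zero => simpa using hx
    | succ j ih =>
      have := hQ _ ih
      have e : h ^ (j + 1) * x * (h ^ (j + 1))⁻¹ = h * (h ^ j * x * (h ^ j)⁻¹) * h⁻¹ := by
        rw [pow_succ']; group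
      rw [e]; exact this
  let 𝒮 : Set (Subgroup G) :=
    {Q | Q ≤ R ∧ (∀ x ∈ Q, h * x * h⁻¹ ∈ Q) ∧ ∃ x ∈ Q, x * g ≠ g * x}
  obtain ⟨P, ⟨hPR, hPh, hPnc⟩, hPmin⟩ := Set.exists_min_image 𝒮 (fun Q => Nat.card Q)
    (Set.toFinite _) ⟨R, le_rfl, hnorm, hnc⟩
  have hP1 : ∀ Q : Subgroup G, Q ≤ P → (∀ x ∈ Q, h * x * h⁻¹ ∈ Q) → Q ≠ P →
      ∀ x ∈ Q, x * g = g * x := by
    intro Q hQP hQh hQne x hx
    by_contra hxg
    have := hPmin Q ⟨hQP.trans hPR, hQh, x, hx, hxg⟩
    exact hQne (Subgroup.eq_of_le_of_card_ge hQP this)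
  have hPz := hinvz P hPh
  have hPp : IsPGroup r P := hR.to_le hPR
  let D : Subgroup G :=
    { carrier := {x | x ∈ P ∧ x * g = g * x}
      mul_mem' := by
        rintro a b ⟨ha, hag⟩ ⟨hb, hbg⟩
        exact ⟨mul_mem ha hb, by rw [mul_assoc, hbg, ← mul_assoc, hag, mul_assoc]⟩
      one_mem' := ⟨one_mem _, by rw [one_mul, mul_one]⟩
      inv_mem' := by
        rintro a ⟨ha, hag⟩
        refine ⟨inv_mem ha, ?_⟩
        have : Commute a g := hag
        exact this.inv_left.eq }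
  have hDP : D ≤ P := fun x hx => hx.1
  have hhg : h * g = g * h := by
    rw [hg]; exact ((Commute.refl h).pow_right _).eq
  have hDh : ∀ x ∈ D, h * x * h⁻¹ ∈ D := by
    rintro x ⟨hx, hxg⟩
    refine ⟨hPh x hx, ?_⟩
    have c1 : Commute h g := hhg
    have c2 : Commute x g := hxg
    exact ((c1.mul_left c2).mul_left c1.inv_left).eq
  have hDz := hinvz D hDh
  have hDne : D ≠ P := by
    intro hDP'
    obtain ⟨x, hx, hxg⟩ := hPnc
    rw [← hDP'] at hx
    exact hxg hx.2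
  have hP4 : ∀ x ∈ P, ∀ d ∈ D, x * d * x⁻¹ ∈ D := by
    let N : Subgroup G :=
      { carrier := {x | x ∈ P ∧ ∀ d ∈ D, x * d * x⁻¹ ∈ D ∧ x⁻¹ * d * x ∈ D}
        mul_mem' := by
          rintro a b ⟨ha, ha'⟩ ⟨hb, hb'⟩
          refine ⟨mul_mem ha hb, ?_⟩
          intro d hd
          constructor
          · have := (ha' _ (hb' d hd).1).1
            have e : a * b * d * (a * b)⁻¹ = a * (b * d * b⁻¹) * a⁻¹ := by group
            rw [e]; exact this
          · have := (hb' _ (ha' d hd).2).2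
            have e : (a * b)⁻¹ * d * (a * b) = b⁻¹ * (a⁻¹ * d * a) * b := by group
            rw [e]; exact this
        one_mem' := ⟨one_mem _, fun d hd => ⟨by simpa using hd, by simpa using hd⟩⟩
        inv_mem' := by
          rintro a ⟨ha, ha'⟩
          refine ⟨inv_mem ha, ?_⟩
          intro d hd
          constructor
          · simpa using (ha' d hd).2
          · simpa using (ha' d hd).1 }
    have hNP : N ≤ P := fun x hx => hx.1
    have hNh : ∀ x ∈ N, h * x * h⁻¹ ∈ N := by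
      rintro x ⟨hx, hx'⟩
      refine ⟨hPh x hx, ?_⟩
      intro d hd
      have hd1 : h⁻¹ * d * h ∈ D := by
        have := hDz h⁻¹ (inv_mem (Subgroup.mem_zpowers h)) d hd
        simpa using this
      constructor
      · have := hDh _ (hx' _ hd1).1
        have e : h * x * h⁻¹ * d * (h * x * h⁻¹)⁻¹ = h * (x * (h⁻¹ * d * h) * x⁻¹) * h⁻¹ := by
          group
        rw [e]; exact this
      · have := hDh _ (hx' _ hd1).2
        have e : (h * x * h⁻¹)⁻¹ * d * (h * x * h⁻¹) = h * (x⁻¹ * (h⁻¹ * d * h) * x) * h⁻¹ := by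
          group
        rw [e]; exact this
    have hNeq : N = P := by
      by_contra hNne
      have hNc := hP1 N hNP hNh hNne
      haveI := hPp.isNilpotent
      have hD'lt : D.subgroupOf P < ⊤ := by
        rw [lt_top_iff_ne_top]
        intro htop
        apply hDne
        apply le_antisymm hDP
        intro x hx
        have : (⟨x, hx⟩ : P) ∈ D.subgroupOf P := by rw [htop]; exact Subgroup.mem_top _
        exact this
      have hnc' := Group.normalizerCondition_of_isNilpotent (G := P) (D.subgroupOf P) hD'lt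
      obtain ⟨n, hn, hnD⟩ := SetLike.exists_of_lt hnc'
      rw [Subgroup.mem_normalizer_iff] at hn
      apply hnD
      have hnN : (n : G) ∈ N := by
        refine ⟨n.2, ?_⟩
        intro d hd
        constructor
        · have := (hn ⟨d, hDP hd⟩).mp hd
          exact this
        · have := (hn (n⁻¹ * ⟨d, hDP hd⟩ * n)).mpr (by
            have e : n * (n⁻¹ * ⟨d, hDP hd⟩ * n) * n⁻¹ = ⟨d, hDP hd⟩ := by group
            rw [e]; exact hd)
          exact this
      exact ⟨n.2, hNc _ hnN⟩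
    intro x hx d hd
    rw [← hNeq] at hx
    exact (hx.2 d hd).1
  have hP5 : ∀ x ∈ P, (x⁻¹ * (g * x * g⁻¹)) * g = g * (x⁻¹ * (g * x * g⁻¹)) →
      x * g = g * x := by
    intro x hx hc
    obtain ⟨c, hcdef⟩ : ∃ c : G, c = x⁻¹ * (g * x * g⁻¹) := ⟨_, rfl⟩
    rw [← hcdef] at hc
    have hcc : Commute c g := hc
    have hgx : g * x * g⁻¹ = x * c := by rw [hcdef]; group
    have hiter : ∀ i : ℕ, g ^ i * x * (g ^ i)⁻¹ = x * c ^ i := by
      intro i
      induction i with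
      | zero => simp
      | succ i ih =>
        have e : g ^ (i + 1) * x * (g ^ (i + 1))⁻¹ = g * (g ^ i * x * (g ^ i)⁻¹) * g⁻¹ := by
          rw [pow_succ']; group
        rw [e, ih]
        have e2 : g * (x * c ^ i) * g⁻¹ = (g * x * g⁻¹) * (g * c ^ i * g⁻¹) := by group
        rw [e2, hgx]
        have e3 : g * c ^ i * g⁻¹ = c ^ i := by
          have : Commute g (c ^ i) := (hcc.pow_left i).symm
          rw [this.eq, mul_inv_cancel_right]
        rw [e3, pow_succ', mul_assoc]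
    have hcℓ : c ^ ℓ = 1 := by
      have := hiter ℓ
      rw [hgℓ] at this
      simpa using this.symm
    have hcP : c ∈ P := by
      rw [hcdef]
      exact mul_mem (inv_mem hx) (hPz g hgz x hx)
    have hc1 : c = 1 := by
      obtain ⟨k, hk⟩ := (IsPGroup.iff_orderOf.mp hPp) ⟨c, hcP⟩
      have hk' : orderOf c = r ^ k := by
        rw [← hk]; exact (Subgroup.orderOf_coe (⟨c, hcP⟩ : P))
      have hdvd : orderOf c ∣ ℓ := orderOf_dvd_of_pow_eq_one hcℓ
      rw [hk'] at hdvd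
      have : k = 0 := by
        by_contra hk0
        have : r ∣ ℓ := dvd_trans (dvd_pow_self r hk0) hdvd
        exact hne ((Nat.prime_dvd_prime_iff_eq hr hℓ).mp this)
      rw [this, pow_zero] at hk'
      exact orderOf_eq_one_iff.mp hk'
    rw [hc1, mul_one] at hgx
    have : g * x = x * g := by
      have e : g * x = (g * x * g⁻¹) * g := by group
      rw [e, hgx]
    exact this.symm
  have hP5' : ∀ y ∈ Subgroup.zpowers h, y ≠ 1 → ∀ x ∈ P,
      (x⁻¹ * (y * x * y⁻¹)) * g = g * (x⁻¹ * (y * x * y⁻¹)) → x * g = g * x := by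
    intro y hy hy1 x hx hc
    have hgy : g ∈ Subgroup.zpowers y := hg ▸ cyc_pow h ℓ b hℓ hb hord y hy hy1
    have hyD : x⁻¹ * (y * x * y⁻¹) ∈ D := ⟨mul_mem (inv_mem hx) (hPz y hy x hx), hc⟩
    have hiter : ∀ k : ℕ, x⁻¹ * (y ^ k * x * (y ^ k)⁻¹) ∈ D := by
      intro k
      induction k with
      | zero => simp [one_mem]
      | succ k ih =>
        have e : x⁻¹ * (y ^ (k + 1) * x * (y ^ (k + 1))⁻¹) =
            (x⁻¹ * (y * x * y⁻¹)) * (y * (x⁻¹ * (y ^ k * x * (y ^ k)⁻¹)) * y⁻¹) := by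
          rw [pow_succ']; group
        rw [e]
        exact mul_mem hyD (hDz y hy _ ih)
    obtain ⟨k, hk⟩ := Subgroup.mem_zpowers_iff.mp hgy
    obtain ⟨j, hj⟩ := hnat y k
    have := hiter j
    rw [← hj, hk] at this
    exact hP5 x hx this.2
  let gen : Set G := {u | ∃ x ∈ P, u = x⁻¹ * (g * x * g⁻¹)}
  have hgenP : Subgroup.closure gen ≤ P := by
    rw [Subgroup.closure_le]
    rintro _ ⟨x, hx, rfl⟩
    exact mul_mem (inv_mem hx) (hPz g hgz x hx)
  have hgenh : ∀ x ∈ Subgroup.closure gen, h * x * h⁻¹ ∈ Subgroup.closure gen := by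
    intro x hx
    induction hx using Subgroup.closure_induction with
    | mem u hu =>
      obtain ⟨x, hx, rfl⟩ := hu
      apply Subgroup.subset_closure
      refine ⟨h * x * h⁻¹, hPh x hx, ?_⟩
      have hc : h * g * h⁻¹ = g := by rw [hhg, mul_inv_cancel_right]
      have e : h * (x⁻¹ * (g * x * g⁻¹)) * h⁻¹ =
          (h * x * h⁻¹)⁻¹ * ((h * g * h⁻¹) * (h * x * h⁻¹) * (h * g * h⁻¹)⁻¹) := by group
      rw [e, hc]
    | one => simp [one_mem]
    | mul a b _ _ iha ihb =>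
      have e : h * (a * b) * h⁻¹ = (h * a * h⁻¹) * (h * b * h⁻¹) := by group
      rw [e]; exact mul_mem iha ihb
    | inv a _ iha =>
      have e : h * a⁻¹ * h⁻¹ = (h * a * h⁻¹)⁻¹ := by group
      rw [e]; exact inv_mem iha
  have hgenEq : Subgroup.closure gen = P := by
    by_contra hne'
    have hc := hP1 _ hgenP hgenh hne'
    obtain ⟨x, hx, hxg⟩ := hPnc
    apply hxg
    apply hP5 x hx
    exact hc _ (Subgroup.subset_closure ⟨x, hx, rfl⟩)
  have hP7 : ∀ d ∈ P, d * g = g * d → ∀ x ∈ P, d * x = x * d := by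
    intro d hdP hdg x hx
    have hdD : d ∈ D := ⟨hdP, hdg⟩
    rw [← hgenEq] at hx
    induction hx using Subgroup.closure_induction with
    | mem u hu =>
      obtain ⟨x, hx, rfl⟩ := hu
      have hd' := hP4 x hx d hdD
      have c1 : Commute d g := hdg
      have c2 : Commute (x * d * x⁻¹) g := hd'.2
      have s1 : x⁻¹ * (g * x * g⁻¹) * d = x⁻¹ * g * x * (g⁻¹ * d) := by group
      have s2 : g⁻¹ * d = d * g⁻¹ := (c1.inv_right).eq.symm
      have s3 : x⁻¹ * g * x * (d * g⁻¹) = x⁻¹ * (g * (x * d * x⁻¹)) * x * g⁻¹ := by group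
      have s4 : g * (x * d * x⁻¹) = (x * d * x⁻¹) * g := c2.eq.symm
      have s5 : x⁻¹ * ((x * d * x⁻¹) * g) * x * g⁻¹ = d * (x⁻¹ * (g * x * g⁻¹)) := by group
      rw [s1, s2, s3, s4, s5]
    | one => simp
    | mul a b _ _ iha ihb => rw [← mul_assoc, iha, mul_assoc, ihb, mul_assoc]
    | inv a _ iha =>
      have : Commute d a := iha
      exact this.inv_right.eq
  have hP8 : ∀ x ∈ P, ∀ y ∈ P, (x * y * x⁻¹ * y⁻¹) * g = g * (x * y * x⁻¹ * y⁻¹) := by
    have hQP : ⁅P, P⁆ ≤ P := Subgroup.commutator_le.mpr (fun a ha b hb => by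
      rw [commutatorElement_def]
      exact mul_mem (mul_mem (mul_mem ha hb) (inv_mem ha)) (inv_mem hb))
    have hQh : ∀ x ∈ ⁅P, P⁆, h * x * h⁻¹ ∈ ⁅P, P⁆ := by
      intro x hx
      rw [Subgroup.commutator_def] at hx ⊢
      induction hx using Subgroup.closure_induction with
      | mem u hu =>
        obtain ⟨a, ha, b, hb, rfl⟩ := hu
        apply Subgroup.subset_closure
        refine ⟨h * a * h⁻¹, hPh a ha, h * b * h⁻¹, hPh b hb, ?_⟩
        rw [commutatorElement_def, commutatorElement_def]; group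
      | one => simp [one_mem]
      | mul a b _ _ iha ihb =>
        have e : h * (a * b) * h⁻¹ = (h * a * h⁻¹) * (h * b * h⁻¹) := by group
        rw [e]; exact mul_mem iha ihb
      | inv a _ iha =>
        have e : h * a⁻¹ * h⁻¹ = (h * a * h⁻¹)⁻¹ := by group
        rw [e]; exact inv_mem iha
    have hQne : ⁅P, P⁆ ≠ P := by
      intro hQeq
      haveI := hPp.isNilpotent
      haveI : Nontrivial P := by
        obtain ⟨x, hx, hxg⟩ := hPnc
        refine ⟨⟨⟨x, hx⟩, 1, ?_⟩⟩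
        intro h1
        apply hxg
        have : x = 1 := congrArg Subtype.val h1
        rw [this, one_mul, mul_one]
      have hlt := Group.IsSolvable.commutator_lt_top_of_nontrivial P
      have h1 : (commutator P).map P.subtype = (⊤ : Subgroup P).map P.subtype := by
        rw [Subgroup.map_subtype_commutator, hQeq, ← MonoidHom.range_eq_map,
          Subgroup.range_subtype]
      exact (lt_top_iff_ne_top.mp hlt) (Subgroup.map_injective P.subtype_injective h1)
    intro x hx y hy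
    have := hP1 _ hQP hQh hQne (x * y * x⁻¹ * y⁻¹) (by
      have := Subgroup.commutator_mem_commutator hx hy
      rw [commutatorElement_def] at this
      exact this)
    exact this
  have hP10 : (∀ x ∈ P, (∀ y ∈ P, x * y = y * x) → x * g = g * x) ∨
      ((∀ x ∈ P, ∀ y ∈ P, x * y = y * x) ∧ ∀ x ∈ P, x * g = g * x → x = 1) := by
    let Zc : Subgroup G :=
      { carrier := {x | x ∈ P ∧ ∀ y ∈ P, x * y = y * x}
        mul_mem' := by
          rintro a b ⟨ha, ha'⟩ ⟨hb, hb'⟩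
          exact ⟨mul_mem ha hb, fun y hy => by
            rw [mul_assoc, hb' y hy, ← mul_assoc, ha' y hy, mul_assoc]⟩
        one_mem' := ⟨one_mem _, fun y _ => by rw [one_mul, mul_one]⟩
        inv_mem' := by
          rintro a ⟨ha, ha'⟩
          refine ⟨inv_mem ha, fun y hy => ?_⟩
          have : Commute a y := ha' y hy
          exact this.inv_left.eq }
    have hZP : Zc ≤ P := fun x hx => hx.1
    have hZh : ∀ x ∈ Zc, h * x * h⁻¹ ∈ Zc := by
      rintro x ⟨hx, hx'⟩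
      refine ⟨hPh x hx, fun y hy => ?_⟩
      have hy' : h⁻¹ * y * h ∈ P := by
        have := hPz h⁻¹ (inv_mem (Subgroup.mem_zpowers h)) y hy
        simpa using this
      have := hx' _ hy'
      have e1 : h * x * h⁻¹ * y = h * (x * (h⁻¹ * y * h)) * h⁻¹ := by group
      have e2 : y * (h * x * h⁻¹) = h * ((h⁻¹ * y * h) * x) * h⁻¹ := by group
      rw [e1, e2, this]
    by_cases hZeq : Zc = P
    · right
      have hab : ∀ x ∈ P, ∀ y ∈ P, x * y = y * x := by
        intro x hx y hy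
        rw [← hZeq] at hx
        exact hx.2 y hy
      refine ⟨hab, ?_⟩
      let φ : P →* P := MonoidHom.mk' (fun x => ⟨(x : G)⁻¹ * (g * x * g⁻¹),
          mul_mem (inv_mem x.2) (hPz g hgz x x.2)⟩) (by
        intro a b
        apply Subtype.ext
        show ((a * b : P) : G)⁻¹ * (g * ((a * b : P) : G) * g⁻¹) =
          ((a : G)⁻¹ * (g * a * g⁻¹)) * ((b : G)⁻¹ * (g * b * g⁻¹))
        have h2 : (g * (a : G) * g⁻¹) * (b : G)⁻¹ = (b : G)⁻¹ * (g * a * g⁻¹) :=
          hab _ (hPz g hgz a a.2) _ (inv_mem b.2)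
        have h3 : (b : G)⁻¹ * (a : G)⁻¹ = (a : G)⁻¹ * (b : G)⁻¹ :=
          hab _ (inv_mem b.2) _ (inv_mem a.2)
        rw [Subgroup.coe_mul, mul_inv_rev, h3]
        calc (a : G)⁻¹ * (b : G)⁻¹ * (g * ((a : G) * b) * g⁻¹)
            = (a : G)⁻¹ * ((b : G)⁻¹ * (g * a * g⁻¹)) * (g * b * g⁻¹) := by group
          _ = (a : G)⁻¹ * ((g * a * g⁻¹) * (b : G)⁻¹) * (g * b * g⁻¹) := by rw [h2]
          _ = _ := by group)
      have hφsurj : Function.Surjective φ := by
        rw [← MonoidHom.range_eq_top, eq_top_iff]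
        intro x _
        have hx : (x : G) ∈ Subgroup.closure gen := by rw [hgenEq]; exact x.2
        have hle : Subgroup.closure gen ≤ φ.range.map P.subtype := by
          rw [Subgroup.closure_le]
          rintro _ ⟨y, hy, rfl⟩
          exact ⟨φ ⟨y, hy⟩, ⟨⟨y, hy⟩, rfl⟩, rfl⟩
        obtain ⟨z, hz, hzx⟩ := hle hx
        have : z = x := Subtype.ext hzx
        rw [← this]; exact hz
      have hφinj : Function.Injective φ := Finite.injective_iff_surjective.mpr hφsurj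
      intro x hx hxg
      have h1 : φ ⟨x, hx⟩ = 1 := by
        apply Subtype.ext
        show x⁻¹ * (g * x * g⁻¹) = 1
        rw [← hxg]; group
      have h2 := hφinj (h1.trans (map_one φ).symm)
      exact congrArg Subtype.val h2
    · left
      intro x hx hx'
      exact hP1 Zc hZP hZh hZeq x ⟨hx, hx'⟩
  exact ⟨P, hPR, hPz, hPnc, hP7, hP8, hP5', hP10⟩

end Cfsg.Agent.Lib.Helper63.Hup3
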