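import Mathlib
import Cfsg.Agent.Lib.Helper63.SemiLin
import Cfsg.Agent.Lib.Helper63.Hup1
import Cfsg.Agent.Lib.Helper63.Hup3

/-!
# Huppert's theorem: the primitive prime divisor argument (helper63)
-/

set_option autoImplicit false

namespace Cfsg.Agent.Lib.Helper63.Hup4

open Cfsg.Agent.Lib.Helper63.SemiLin Cfsg.Agent.Lib.Helper63.Hup1 Cfsg.Agent.Lib.Helper63.Hup3

section
variable {q : ℕ} [Fact q.Prime] {V : Type*} [AddCommGroup V] [Module (ZMod q) V]

theorem card_submodule [Finite V] (W : Submodule (ZMod q) V) : ∃ i : ℕ, Nat.card W = q ^ i := by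
  refine ⟨Module.finrank (ZMod q) W, ?_⟩
  rw [Module.natCard_eq_pow_finrank (K := ZMod q) (V := W), Nat.card_zmod]

theorem card_ne_zero [Finite V] : Nat.card {v : V // v ≠ 0} = Nat.card V - 1 := by
  classical
  haveI := Fintype.ofFinite V
  rw [Nat.card_eq_fintype_card, Nat.card_eq_fintype_card,
    Fintype.card_subtype_compl (fun v : V => v = 0)]
  simp

theorem eq_top_of_card [Finite V] (W : Submodule (ZMod q) V) (h : Nat.card W = Nat.card V) :
    W = ⊤ := by
  have hb : Function.Bijective (Subtype.val : W → V) :=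
    Function.Injective.bijective_of_nat_card_le Subtype.val_injective h.ge
  rw [eq_top_iff]
  intro v _
  obtain ⟨w, rfl⟩ := hb.2 v
  exact w.2

/-- fixed point congruence for an invariant subspace -/
theorem fix_modEq [Finite V] (ℓ : ℕ) (hℓ : ℓ.Prime) (α : V ≃ₗ[ZMod q] V) (hα : α ^ ℓ = 1)
    (W : Submodule (ZMod q) V) (hW : ∀ v ∈ W, α v ∈ W) :
    Nat.card W ≡ Nat.card (W ⊓ LinearMap.eqLocus (α : V →ₗ[ZMod q] V) LinearMap.id :
      Submodule (ZMod q) V) [MOD ℓ] := by
  classical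
  haveI : Fact ℓ.Prime := ⟨hℓ⟩
  haveI : Fintype W := Fintype.ofFinite W
  let f : Function.End W := fun w => ⟨α w, hW w w.2⟩
  have hfk : ∀ (k : ℕ) (w : W), (((f ^ k) w : W) : V) = (α ^ k) w := by
    intro k
    induction k with
    | zero => intro w; rfl
    | succ k ih =>
      intro w
      rw [pow_succ, pow_succ]
      show (((f ^ k) (f w) : W) : V) = (α ^ k) (α w)
      rw [ih]
  have hf : f ^ ℓ ^ 1 = 1 := by
    rw [pow_one]
    funext w
    apply Subtype.ext
    rw [hfk, hα]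
    rfl
  have h1 := Equiv.Perm.card_fixedPoints_modEq (p := ℓ) (n := 1) hf
  rw [Nat.card_eq_fintype_card]
  have e : Fintype.card (Function.fixedPoints f) = Nat.card (W ⊓
      LinearMap.eqLocus (α : V →ₗ[ZMod q] V) LinearMap.id : Submodule (ZMod q) V) := by
    rw [← Nat.card_eq_fintype_card]
    apply Nat.card_congr
    refine
      { toFun := fun w => ⟨w.1.1, ⟨w.1.2, ?_⟩⟩
        invFun := fun u => ⟨⟨u.1, u.2.1⟩, ?_⟩
        left_inv := fun w => rfl
        right_inv := fun u => rfl }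
    · have := w.2
      have h2 : f w.1 = w.1 := this
      have h3 := congrArg Subtype.val h2
      rw [SetLike.mem_coe, LinearMap.mem_eqLocus]
      exact h3
    · have := u.2.2
      rw [SetLike.mem_coe, LinearMap.mem_eqLocus] at this
      show f ⟨u.1, u.2.1⟩ = ⟨u.1, u.2.1⟩
      apply Subtype.ext
      exact this
  rw [e] at h1
  exact h1

/-- elements of primitive prime order act irreducibly -/
theorem irr_of_ppd [Finite V] (n : ℕ) (hV : Nat.card V = q ^ n) (ℓ : ℕ) (hℓ : ℓ.Prime)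
    (hdvd : ℓ ∣ q ^ n - 1) (hppd : ∀ i, 1 ≤ i → i < n → ¬ ℓ ∣ q ^ i - 1)
    (α : V ≃ₗ[ZMod q] V) (hα : α ^ ℓ = 1) (hα1 : α ≠ 1) :
    ∀ W : Submodule (ZMod q) V, (∀ v ∈ W, α v ∈ W) → W = ⊥ ∨ W = ⊤ := by
  classical
  have hq : (Fact.out : q.Prime).one_lt = (Fact.out : q.Prime).one_lt := rfl
  have hq2 : 2 ≤ q := (Fact.out : q.Prime).two_le
  have hqpos : ∀ i : ℕ, 1 ≤ q ^ i := fun i => Nat.one_le_pow _ _ (by omega)
  have hn0 : n ≠ 0 := by
    rintro rfl
    apply hα1
    rw [pow_zero] at hV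
    haveI : Subsingleton V := (Nat.card_eq_one_iff_unique.mp hV).1
    apply LinearEquiv.ext
    intro v
    exact Subsingleton.elim _ _
  have hℓq : ¬ ℓ ∣ q := by
    intro h
    have h1 : ℓ ∣ q ^ n := dvd_pow h hn0
    have h2 : ℓ ∣ q ^ n - (q ^ n - 1) := Nat.dvd_sub h1 hdvd
    have h3 : q ^ n - (q ^ n - 1) = 1 := by have := hqpos n; omega
    rw [h3] at h2
    exact hℓ.one_lt.ne' (Nat.dvd_one.mp h2)
  have hcopq : ∀ j : ℕ, Nat.Coprime ℓ (q ^ j) := fun j =>
    Nat.Coprime.pow_right j ((Nat.Prime.coprime_iff_not_dvd hℓ).mpr hℓq)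
  -- the fixed space
  let U : Submodule (ZMod q) V := LinearMap.eqLocus (α : V →ₗ[ZMod q] V) LinearMap.id
  have hU : U = ⊥ := by
    have h1 := fix_modEq ℓ hℓ α hα ⊤ (fun v _ => Submodule.mem_top)
    rw [top_inf_eq] at h1
    obtain ⟨j, hj⟩ := card_submodule U
    have htop : Nat.card (⊤ : Submodule (ZMod q) V) = q ^ n := by
      rw [← hV]
      exact Nat.card_congr (Submodule.topEquiv (R := ZMod q) (M := V)).toEquiv
    rw [htop] at h1
    change q ^ n ≡ Nat.card U [MOD ℓ] at h1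
    rw [hj] at h1
    have hjn : j ≤ n := by
      have : Nat.card U ≤ Nat.card V := Nat.card_le_card_of_injective _ Subtype.val_injective
      rw [hj, hV] at this
      exact (Nat.pow_le_pow_iff_right (by omega)).mp this
    have hle : q ^ j ≤ q ^ n := Nat.pow_le_pow_right (by omega) hjn
    have h2 : ℓ ∣ q ^ n - q ^ j := (Nat.modEq_iff_dvd' hle).mp h1.symm
    have h3 : q ^ n - q ^ j = q ^ j * (q ^ (n - j) - 1) := by
      rw [Nat.mul_sub, mul_one, ← pow_add]
      congr 2
      omega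
    rw [h3] at h2
    have h4 : ℓ ∣ q ^ (n - j) - 1 := (hcopq j).dvd_of_dvd_mul_left h2
    have hj0 : j = 0 ∨ j = n := by
      by_contra hcon
      push Not at hcon
      exact hppd (n - j) (by omega) (by omega) h4
    rcases hj0 with hj0 | hj0
    · rw [hj0, pow_zero] at hj
      haveI : Subsingleton U := (Nat.card_eq_one_iff_unique.mp hj).1
      exact Submodule.eq_bot_of_subsingleton
    · exfalso
      apply hα1
      rw [hj0, ← hV] at hj
      have hUtop : U = ⊤ := eq_top_of_card U hj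
      apply LinearEquiv.ext
      intro v
      have : v ∈ U := by rw [hUtop]; exact Submodule.mem_top
      exact LinearMap.mem_eqLocus.mp this
  intro W hW
  have h1 := fix_modEq ℓ hℓ α hα W hW
  have h5 : (W ⊓ U : Submodule (ZMod q) V) = ⊥ := by rw [hU, inf_bot_eq]
  change Nat.card W ≡ Nat.card (W ⊓ U : Submodule (ZMod q) V) [MOD ℓ] at h1
  rw [h5] at h1
  have hbot : Nat.card (⊥ : Submodule (ZMod q) V) = 1 := by
    rw [Nat.card_eq_one_iff_unique]
    exact ⟨inferInstance, inferInstance⟩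
  rw [hbot] at h1
  obtain ⟨i, hi⟩ := card_submodule W
  rw [hi] at h1
  have hin : i ≤ n := by
    have : Nat.card W ≤ Nat.card V := Nat.card_le_card_of_injective _ Subtype.val_injective
    rw [hi, hV] at this
    exact (Nat.pow_le_pow_iff_right (by omega)).mp this
  have h2 : ℓ ∣ q ^ i - 1 := (Nat.modEq_iff_dvd' (hqpos i)).mp h1.symm
  have hi0 : i = 0 ∨ i = n := by
    by_contra hcon
    push Not at hcon
    exact hppd i (by omega) (by omega) h2
  rcases hi0 with hi0 | hi0
  · left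
    rw [hi0, pow_zero] at hi
    haveI : Subsingleton W := (Nat.card_eq_one_iff_unique.mp hi).1
    exact Submodule.eq_bot_of_subsingleton
  · right
    rw [hi0, ← hV] at hi
    exact eq_top_of_card W hi

end

section
variable {q : ℕ} [Fact q.Prime] {V : Type*} [AddCommGroup V] [Module (ZMod q) V]
  {G : Type*} [Group G]

theorem card_dvd [Finite V] [Nontrivial V] [Finite G] (ρ : G →* (V ≃ₗ[ZMod q] V))
    (htrans : ∀ v w : V, v ≠ 0 → w ≠ 0 → ∃ g : G, ρ g v = w) :
    Nat.card V - 1 ∣ Nat.card G := by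
  classical
  obtain ⟨v₀, hv₀⟩ := exists_ne (0 : V)
  letI : MulAction G {v : V // v ≠ 0} :=
    { smul := fun g v => ⟨ρ g v.1, fun h0 => v.2 (by
        have := congrArg (ρ g).symm h0
        rw [LinearEquiv.symm_apply_apply, map_zero] at this; exact this)⟩
      one_smul := fun v => Subtype.ext (by show ρ 1 v.1 = v.1; rw [map_one]; rfl)
      mul_smul := fun a b v => Subtype.ext (by
        show ρ (a * b) v.1 = ρ a (ρ b v.1); rw [map_mul]; rfl) }
  have horb : MulAction.orbit G (⟨v₀, hv₀⟩ : {v : V // v ≠ 0}) = Set.univ := by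
    rw [Set.eq_univ_iff_forall]
    intro w
    obtain ⟨g, hg⟩ := htrans v₀ w.1 hv₀ w.2
    exact ⟨g, Subtype.ext hg⟩
  have h1 := MulAction.index_stabilizer G (⟨v₀, hv₀⟩ : {v : V // v ≠ 0})
  rw [horb, Set.ncard_univ, card_ne_zero] at h1
  rw [← h1]
  exact Subgroup.index_dvd_card _

/-- a normal `q`-subgroup of a transitive linear group is trivial -/
theorem oq_trivial [Finite V] [Nontrivial V] [Finite G] (ρ : G →* (V ≃ₗ[ZMod q] V))
    (hρ : Function.Injective ρ) (htrans : ∀ v w : V, v ≠ 0 → w ≠ 0 → ∃ g : G, ρ g v = w)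
    (N : Subgroup G) [hN : N.Normal] (hNq : IsPGroup q N) : N = ⊥ := by
  classical
  letI : MulAction N V := MulAction.compHom V (ρ.comp N.subtype)
  have hsmul : ∀ (x : N) (v : V), x • v = ρ x v := fun x v => rfl
  have hqV : q ∣ Nat.card V := by
    rw [Module.natCard_eq_pow_finrank (K := ZMod q) (V := V), Nat.card_zmod]
    apply dvd_pow_self
    exact (Module.finrank_pos (R := ZMod q) (M := V)).ne'
  have h0 : (0 : V) ∈ MulAction.fixedPoints N V := by
    intro x; rw [hsmul, map_zero]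
  obtain ⟨v₀, hv₀f, hv₀⟩ := hNq.exists_fixed_point_of_prime_dvd_card_of_fixed_point V hqV h0
  rw [eq_bot_iff]
  intro x hx
  rw [Subgroup.mem_bot]
  apply hρ
  rw [map_one]
  apply LinearEquiv.ext
  intro v
  by_cases hv : v = 0
  · rw [hv, map_zero, map_zero]
  obtain ⟨t, ht⟩ := htrans v₀ v (Ne.symm hv₀) hv
  have hmem : t⁻¹ * x * t ∈ N := by
    have := hN.conj_mem x hx t⁻¹
    simpa using this
  have hfix : ρ (t⁻¹ * x * t) v₀ = v₀ := hv₀f ⟨_, hmem⟩
  have : ρ x v = ρ t (ρ (t⁻¹ * x * t) v₀) := by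
    rw [← ht]
    have e : x * t = t * (t⁻¹ * x * t) := by group
    show (ρ x * ρ t) v₀ = (ρ t * ρ (t⁻¹ * x * t)) v₀
    rw [← map_mul, ← map_mul, e]
  rw [this, hfix, ht]
  rfl

/-- an abelian group normalised by an irreducible element of prime order which acts on it
without fixed points cannot exist (in coprime characteristic) -/
theorem abelian_contra [Finite V] [Nontrivial V] [Finite G] (ρ : G →* (V ≃ₗ[ZMod q] V))
    (hρ : Function.Injective ρ) (g : G) (ℓ : ℕ) (hℓ : ℓ.Prime) (hord : orderOf g = ℓ)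
    (hirr : ∀ W : Submodule (ZMod q) V, (∀ v ∈ W, ρ g v ∈ W) → W = ⊥ ∨ W = ⊤)
    (P : Subgroup G) (hnorm : ∀ y ∈ Subgroup.zpowers g, ∀ x ∈ P, y * x * y⁻¹ ∈ P)
    (hcop : Nat.Coprime (Nat.card P) q) (hP1 : ∃ x ∈ P, x ≠ 1)
    (hfpf : ∀ x ∈ P, x * g = g * x → x = 1) : False := by
  classical
  haveI : Fintype P := Fintype.ofFinite P
  have hg1 : g ≠ 1 := by
    intro h; rw [h, orderOf_one] at hord; exact hℓ.one_lt.ne hord
  have hgℓ : g ^ ℓ = 1 := hord ▸ pow_orderOf_eq_one g
  let φ := toEnd (q := q) ρ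
  have hφ : ∀ (x : G) (v : V), φ x v = ρ x v := fun x v => rfl
  let σ : Module.End (ZMod q) V := ∑ b : P, φ b
  have hσ : σ = 0 := by
    let W : Submodule (ZMod q) V :=
      { carrier := {v | ∀ b ∈ P, ρ b v = v}
        add_mem' := by intro a b ha hb c hc; rw [map_add, ha c hc, hb c hc]
        zero_mem' := by intro c _; rw [map_zero]
        smul_mem' := by intro s v hv c hc; rw [map_smul, hv c hc] }
    have hWinv : ∀ v ∈ W, ρ g v ∈ W := by
      intro v hv b hb
      have hmem : g⁻¹ * b * g ∈ P := by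
        have := hnorm g⁻¹ (inv_mem (Subgroup.mem_zpowers g)) b hb
        simpa using this
      have e : b * g = g * (g⁻¹ * b * g) := by group
      show (ρ b * ρ g) v = ρ g v
      rw [← map_mul, e, map_mul]
      show ρ g (ρ (g⁻¹ * b * g) v) = ρ g v
      rw [hv _ hmem]
    rcases hirr W hWinv with hW | hW
    · apply LinearMap.ext
      intro v
      have hmem : σ v ∈ W := by
        intro c hc
        show φ c (σ v) = σ v
        have : φ c * σ = σ := by
          show φ c * ∑ b : P, φ b = ∑ b : P, φ b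
          rw [Finset.mul_sum]
          have := Equiv.sum_comp (Equiv.mulLeft (⟨c, hc⟩ : P)) (fun b : P => φ (b : G))
          rw [← this]
          apply Finset.sum_congr rfl
          intro b _
          rw [← map_mul]; rfl
        exact congrArg (fun f : Module.End (ZMod q) V => f v) this
      rw [hW] at hmem
      exact (Submodule.mem_bot _).mp hmem
    · exfalso
      obtain ⟨x, hx, hx1⟩ := hP1
      apply hx1
      apply hρ
      rw [map_one]
      apply LinearEquiv.ext
      intro v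
      have : v ∈ W := by rw [hW]; exact Submodule.mem_top
      exact this x hx
  have hgeom : ∑ i ∈ Finset.range ℓ, φ g ^ i = 0 := by
    have h1 := mul_geom_sum (φ g) ℓ
    rw [← map_pow, hgℓ, map_one, sub_self] at h1
    have hinj : Function.Injective ((φ g - 1 : Module.End (ZMod q) V)) := by
      rw [← LinearMap.ker_eq_bot]
      have hinv : ∀ v ∈ LinearMap.ker (φ g - 1), ρ g v ∈ LinearMap.ker (φ g - 1) := by
        intro v hv
        rw [LinearMap.mem_ker, LinearMap.sub_apply, sub_eq_zero] at hv ⊢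
        have hv' : ρ g v = v := hv
        show ρ g (ρ g v) = ρ g v
        rw [hv']
        exact hv'
      rcases hirr _ hinv with h | h
      · exact h
      · exfalso
        apply hg1
        apply hρ
        rw [map_one]
        apply LinearEquiv.ext
        intro v
        have : v ∈ LinearMap.ker (φ g - 1) := by rw [h]; exact Submodule.mem_top
        rw [LinearMap.mem_ker, LinearMap.sub_apply, sub_eq_zero] at this
        exact this
    apply LinearMap.ext
    intro v
    apply hinj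
    have := congrArg (fun f : Module.End (ZMod q) V => f v) h1
    rw [LinearMap.zero_apply, map_zero]
    exact this
  have key1 : ∑ i ∈ Finset.range ℓ, ∑ b : P, φ ((b : G)⁻¹ * g ^ i * b) = 0 := by
    rw [Finset.sum_comm]
    apply Finset.sum_eq_zero
    intro b _
    have : ∑ i ∈ Finset.range ℓ, φ ((b : G)⁻¹ * g ^ i * b) =
        φ (b : G)⁻¹ * (∑ i ∈ Finset.range ℓ, φ g ^ i) * φ b := by
      rw [Finset.mul_sum, Finset.sum_mul]
      apply Finset.sum_congr rfl
      intro i _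
      rw [map_mul, map_mul, map_pow]
    rw [this, hgeom, mul_zero, zero_mul]
  have key2 : ∀ i ∈ Finset.range ℓ, i ≠ 0 → ∑ b : P, φ ((b : G)⁻¹ * g ^ i * b) = 0 := by
    intro i hi hi0
    rw [Finset.mem_range] at hi
    have hgi1 : g ^ i ≠ 1 := by
      intro h
      have := orderOf_dvd_of_pow_eq_one h
      rw [hord] at this
      have := Nat.le_of_dvd (by omega) this
      omega
    have hgiz : g ^ i ∈ Subgroup.zpowers g := Subgroup.pow_mem _ (Subgroup.mem_zpowers g) i
    have hgi : g ∈ Subgroup.zpowers (g ^ i) := by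
      have := cyc_pow g ℓ 1 hℓ le_rfl (by rw [hord, pow_one]) (g ^ i) hgiz hgi1
      simpa using this
    let κ : P → P := fun b => ⟨(b : G)⁻¹ * (g ^ i * b * (g ^ i)⁻¹),
      mul_mem (inv_mem b.2) (hnorm _ hgiz b b.2)⟩
    have hκinj : Function.Injective κ := by
      intro b c hbc
      have h1 : (b : G)⁻¹ * (g ^ i * b * (g ^ i)⁻¹) = (c : G)⁻¹ * (g ^ i * c * (g ^ i)⁻¹) :=
        congrArg Subtype.val hbc
      have h2 : ((c : G) * (b : G)⁻¹) * g ^ i = g ^ i * ((c : G) * (b : G)⁻¹) := by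
        have e1 : ((c : G) * (b : G)⁻¹) * g ^ i =
            c * ((b : G)⁻¹ * (g ^ i * b * (g ^ i)⁻¹)) * (g ^ i * (b : G)⁻¹) := by group
        rw [e1, h1]; group
      have h3 : ((c : G) * (b : G)⁻¹) * g = g * ((c : G) * (b : G)⁻¹) := by
        obtain ⟨k, hk⟩ := Subgroup.mem_zpowers_iff.mp hgi
        rw [← hk]
        have : Commute ((c : G) * (b : G)⁻¹) (g ^ i) := h2
        exact (this.zpow_right k).eq
      have h4 := hfpf _ (mul_mem c.2 (inv_mem b.2)) h3
      apply Subtype.ext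
      exact (mul_inv_eq_one.mp h4).symm
    have hκbij : Function.Bijective κ := ⟨hκinj, Finite.surjective_of_injective hκinj⟩
    have h5 : ∑ b : P, φ ((b : G)⁻¹ * g ^ i * b) = ∑ b : P, φ (κ b : G) * φ (g ^ i) := by
      apply Finset.sum_congr rfl
      intro b _
      rw [← map_mul]
      congr 1
      show (b : G)⁻¹ * g ^ i * b = (b : G)⁻¹ * (g ^ i * b * (g ^ i)⁻¹) * g ^ i
      group
    rw [h5, ← Finset.sum_mul]
    have h6 : ∑ b : P, φ (κ b : G) = σ :=
      Equiv.sum_comp (Equiv.ofBijective κ hκbij) (fun b : P => φ (b : G))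
    rw [h6, hσ, zero_mul]
  have key3 : ∑ i ∈ Finset.range ℓ, ∑ b : P, φ ((b : G)⁻¹ * g ^ i * b) =
      (Nat.card P : Module.End (ZMod q) V) := by
    rw [Finset.sum_eq_single 0 key2 (fun h => absurd (Finset.mem_range.mpr hℓ.pos) h)]
    simp [Nat.card_eq_fintype_card]
  rw [key1] at key3
  obtain ⟨v₀, hv₀⟩ := exists_ne (0 : V)
  have h7 := congrArg (fun f : Module.End (ZMod q) V => f v₀) key3
  simp only [LinearMap.zero_apply] at h7
  have h8 : ((Nat.card P : Module.End (ZMod q) V)) v₀ = (Nat.card P : ZMod q) • v₀ := by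
    rw [Nat.cast_smul_eq_nsmul]
    simp
  rw [h8] at h7
  have h9 := (smul_eq_zero.mp h7.symm).resolve_right hv₀
  rw [ZMod.natCast_eq_zero_iff] at h9
  exact (Nat.Prime.coprime_iff_not_dvd (Fact.out : q.Prime)).mp hcop.symm h9

end

section
variable {q : ℕ} [Fact q.Prime] {V : Type*} [AddCommGroup V] [Module (ZMod q) V]
  {G : Type*} [Group G]

/-- linear independence of coset representatives: the central index is at most `n²` -/
theorem index_le [Finite V] [Nontrivial V] [Finite G] (ρ : G →* (V ≃ₗ[ZMod q] V)) (n : ℕ)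
    (hV : Nat.card V = q ^ n) (P D : Subgroup G) (hDP : D ≤ P)
    (hDc : ∀ d ∈ D, ∀ x ∈ P, d * x = x * d)
    (hcomm : ∀ x ∈ P, ∀ y ∈ P, x * y * x⁻¹ * y⁻¹ ∈ D)
    (hnd : ∀ u ∈ P, u ∉ D → ∃ y ∈ P,
      Function.Injective ((toEnd ρ (u⁻¹ * y⁻¹ * u * y) - 1 : Module.End (ZMod q) V)))
    (hcop : Nat.Coprime (Nat.card P) q) : D.relIndex P ≤ n * n := by
  classical
  haveI : Fintype P := Fintype.ofFinite P
  let φ := toEnd (q := q) ρ
  have hS : ∀ u ∈ P, u ∉ D → ∑ y : P, φ ((y : G)⁻¹ * u * y) = 0 := by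
    intro u hu huD
    obtain ⟨y₀, hy₀, hinj⟩ := hnd u hu huD
    obtain ⟨c₀, hc₀⟩ : ∃ c₀ : G, c₀ = u⁻¹ * y₀⁻¹ * u * y₀ := ⟨_, rfl⟩
    rw [← hc₀] at hinj
    have hc₀D : c₀ ∈ D := by
      have := hcomm u⁻¹ (inv_mem hu) y₀⁻¹ (inv_mem hy₀)
      rw [hc₀]; simpa using this
    have hstep : ∀ y : P, ((y * ⟨y₀, hy₀⟩ : P) : G)⁻¹ * u * ((y * ⟨y₀, hy₀⟩ : P) : G) =
        ((y : G)⁻¹ * u * y) * c₀ := by
      intro y
      obtain ⟨d, hd⟩ : ∃ d : G, d = u⁻¹ * (y : G)⁻¹ * u * y := ⟨_, rfl⟩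
      have hdD : d ∈ D := by
        have := hcomm u⁻¹ (inv_mem hu) (y : G)⁻¹ (inv_mem y.2)
        rw [hd]; simpa using this
      have h1 : d * y₀ = y₀ * d := hDc d hdD y₀ hy₀
      have h2 : d * c₀ = c₀ * d := hDc d hdD c₀ (hDP hc₀D)
      have e1 : ((y * ⟨y₀, hy₀⟩ : P) : G)⁻¹ * u * ((y * ⟨y₀, hy₀⟩ : P) : G) =
          y₀⁻¹ * u * (d * y₀) := by
        rw [Subgroup.coe_mul, hd]; group
      have e2 : y₀⁻¹ * u * (y₀ * d) = u * (c₀ * d) := by rw [hc₀]; group
      have e3 : (y : G)⁻¹ * u * y * c₀ = u * (d * c₀) := by rw [hd]; group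
      rw [e1, h1, e2, e3, h2]
    have h3 : ∑ y : P, φ ((y : G)⁻¹ * u * y) = (∑ y : P, φ ((y : G)⁻¹ * u * y)) * φ c₀ := by
      conv_lhs => rw [← Equiv.sum_comp (Equiv.mulRight (⟨y₀, hy₀⟩ : P))
        (fun y : P => φ ((y : G)⁻¹ * u * y))]
      rw [Finset.sum_mul]
      apply Finset.sum_congr rfl
      intro y _
      rw [← map_mul]
      congr 1
      exact hstep y
    have h4 : (∑ y : P, φ ((y : G)⁻¹ * u * y)) * (φ c₀ - 1) = 0 := by
      rw [mul_sub, mul_one, ← h3, sub_self]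
    have hsurj : Function.Surjective ((φ c₀ - 1 : Module.End (ZMod q) V)) :=
      Finite.surjective_of_injective hinj
    apply LinearMap.ext
    intro v
    obtain ⟨w, rfl⟩ := hsurj v
    have := congrArg (fun f : Module.End (ZMod q) V => f w) h4
    exact this
  let ι := P ⧸ D.subgroupOf P
  haveI : Fintype ι := Fintype.ofFinite ι
  let bb : ι → Module.End (ZMod q) V := fun i => φ ((Quotient.out i : P) : G)
  have hli : LinearIndependent (ZMod q) bb := by
    rw [Fintype.linearIndependent_iff]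
    intro c hsum j
    obtain ⟨xj, hxj⟩ : ∃ xj : P, xj = Quotient.out j := ⟨_, rfl⟩
    have h1 : ∑ y : P, φ ((y : G)⁻¹ * (xj : G)⁻¹) * (∑ i, c i • bb i) * φ y = 0 := by
      rw [hsum]; simp
    have h2 : ∑ y : P, φ ((y : G)⁻¹ * (xj : G)⁻¹) * (∑ i, c i • bb i) * φ y =
        ∑ i, c i • ∑ y : P, φ ((y : G)⁻¹ * ((xj : G)⁻¹ * ((Quotient.out i : P) : G)) * y) := by
      simp only [Finset.mul_sum, Finset.sum_mul, Finset.smul_sum]
      rw [Finset.sum_comm]
      apply Finset.sum_congr rfl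
      intro i _
      apply Finset.sum_congr rfl
      intro y _
      rw [mul_smul_comm, smul_mul_assoc]
      congr 1
      show φ _ * φ _ * φ _ = _
      rw [← map_mul, ← map_mul]
      congr 1
      group
    rw [h2, Finset.sum_eq_single j] at h1
    · have h3 : ∑ y : P, φ ((y : G)⁻¹ * ((xj : G)⁻¹ * ((Quotient.out j : P) : G)) * y) =
          (Nat.card P : Module.End (ZMod q) V) := by
        rw [← hxj]
        simp [Nat.card_eq_fintype_card]
      rw [h3] at h1
      obtain ⟨v₀, hv₀⟩ := exists_ne (0 : V)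
      have h4 := congrArg (fun f : Module.End (ZMod q) V => f v₀) h1
      simp only [LinearMap.zero_apply, LinearMap.smul_apply] at h4
      have h5 : ((Nat.card P : Module.End (ZMod q) V)) v₀ = (Nat.card P : ZMod q) • v₀ := by
        rw [Nat.cast_smul_eq_nsmul]; simp
      rw [h5, smul_smul] at h4
      have h6 := (smul_eq_zero.mp h4).resolve_right hv₀
      rcases mul_eq_zero.mp h6 with h7 | h7
      · exact h7
      · exfalso
        rw [ZMod.natCast_eq_zero_iff] at h7
        exact (Nat.Prime.coprime_iff_not_dvd (Fact.out : q.Prime)).mp hcop.symm h7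
    · intro i _ hij
      have hu : (xj : G)⁻¹ * ((Quotient.out i : P) : G) ∉ D := by
        intro hmem
        apply hij
        have : ((xj : P) : ι) = ((Quotient.out i : P) : ι) := by
          rw [QuotientGroup.eq]
          exact hmem
        rw [hxj, QuotientGroup.out_eq', QuotientGroup.out_eq'] at this
        exact this.symm
      rw [hS _ (mul_mem (inv_mem xj.2) (Quotient.out i).2) hu, smul_zero]
    · intro hj; exact absurd (Finset.mem_univ j) hj
  have h1 := hli.fintype_card_le_finrank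
  have hfr : Module.finrank (ZMod q) (Module.End (ZMod q) V) = n * n := by
    have hn : Module.finrank (ZMod q) V = n := by
      have := Module.natCard_eq_pow_finrank (K := ZMod q) (V := V)
      rw [hV, Nat.card_zmod] at this
      exact (Nat.pow_right_injective (Fact.out : q.Prime).two_le this).symm
    rw [Module.finrank_linearMap, hn]
  rw [hfr] at h1
  rw [Subgroup.relIndex, Subgroup.index_eq_card, Nat.card_eq_fintype_card]
  exact h1

/-- a cyclic `ℓ`-group acting freely on the nontrivial cosets -/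
theorem free_count [Finite G] (h : G) (ℓ b r : ℕ) (hℓ : ℓ.Prime) (hr : r.Prime) (hne : r ≠ ℓ)
    (hord : orderOf h = ℓ ^ b) (P D : Subgroup G) (hDP : D ≤ P) (hPp : IsPGroup r P)
    (hPz : ∀ y ∈ Subgroup.zpowers h, ∀ x ∈ P, y * x * y⁻¹ ∈ P)
    (hDz : ∀ y ∈ Subgroup.zpowers h, ∀ x ∈ D, y * x * y⁻¹ ∈ D)
    (hfree : ∀ y ∈ Subgroup.zpowers h, y ≠ 1 → ∀ x ∈ P, x⁻¹ * (y * x * y⁻¹) ∈ D → x ∈ D) :
    ℓ ^ b ∣ D.relIndex P - 1 := by
  classical
  haveI : Fact r.Prime := ⟨hr⟩
  let X := {x : G // x ∈ P ∧ x ∉ D}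
  letI : MulAction (Subgroup.zpowers h) X :=
    { smul := fun y x => ⟨(y : G) * x.1 * (y : G)⁻¹, hPz y y.2 x.1 x.2.1, fun hD => x.2.2 (by
        have := hDz (y : G)⁻¹ (inv_mem y.2) _ hD
        have e : (y : G)⁻¹ * ((y : G) * x.1 * (y : G)⁻¹) * ((y : G)⁻¹)⁻¹ = x.1 := by group
        rw [e] at this; exact this)⟩
      one_smul := fun x => Subtype.ext (by
        show ((1 : Subgroup.zpowers h) : G) * x.1 * ((1 : Subgroup.zpowers h) : G)⁻¹ = x.1
        rw [Subgroup.coe_one]; group)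
      mul_smul := fun y z x => Subtype.ext (by
        show ((y * z : Subgroup.zpowers h) : G) * x.1 * ((y * z : Subgroup.zpowers h) : G)⁻¹ =
          (y : G) * ((z : G) * x.1 * (z : G)⁻¹) * (y : G)⁻¹
        rw [Subgroup.coe_mul]; group) }
  have hfree' : ∀ (y : Subgroup.zpowers h) (x : X), y • x = x → y = 1 := by
    intro y x hyx
    by_contra hy1
    have h1 : (y : G) * x.1 * (y : G)⁻¹ = x.1 := congrArg Subtype.val hyx
    apply x.2.2
    apply hfree y y.2 (fun h0 => hy1 (Subtype.ext h0)) x.1 x.2.1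
    rw [h1, inv_mul_cancel]
    exact one_mem D
  have hdvd := card_dvd_of_free hfree'
  rw [Nat.card_zpowers, hord] at hdvd
  have hX : Nat.card X = Nat.card D * (D.relIndex P - 1) := by
    have h1 : Nat.card X = ((P : Set G) \ (D : Set G)).ncard := by
      rw [← Nat.card_coe_set_eq]; rfl
    have h2 : ((P : Set G) \ (D : Set G)).ncard = (P : Set G).ncard - (D : Set G).ncard :=
      Set.ncard_sdiff hDP (Set.toFinite _)
    have h3 : (P : Set G).ncard = Nat.card P := (Nat.card_coe_set_eq (P : Set G)).symm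
    have h4 : (D : Set G).ncard = Nat.card D := (Nat.card_coe_set_eq (D : Set G)).symm
    have h5 : Nat.card P = Nat.card D * D.relIndex P := by
      have := Subgroup.card_mul_index (D.subgroupOf P)
      rw [← this, Subgroup.relIndex]
      congr 1
      exact Nat.card_congr (Subgroup.subgroupOfEquivOfLe hDP).toEquiv
    rw [h1, h2, h3, h4, h5, Nat.mul_sub, mul_one]
  rw [hX] at hdvd
  obtain ⟨m, hm⟩ := IsPGroup.iff_card.mp (hPp.to_le hDP)
  have hcop : Nat.Coprime (ℓ ^ b) (Nat.card D) := by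
    rw [hm]
    apply Nat.Coprime.pow
    rw [Nat.coprime_primes hℓ hr]
    exact hne.symm
  exact hcop.dvd_of_dvd_mul_left hdvd

/-- an element of order `ℓ²` -/
theorem exists_order_sq [Finite V] [Nontrivial V] [Finite G] (ρ : G →* (V ≃ₗ[ZMod q] V))
    (hρ : Function.Injective ρ) (n : ℕ) (hV : Nat.card V = q ^ n) (ℓ : ℕ) (hℓ : ℓ.Prime)
    (hdvd : ℓ ∣ q ^ n - 1) (hppd : ∀ i, 1 ≤ i → i < n → ¬ ℓ ∣ q ^ i - 1)
    (hG : ℓ ^ 2 ∣ Nat.card G) : ∃ h : G, orderOf h = ℓ ^ 2 := by
  classical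
  haveI : Fact ℓ.Prime := ⟨hℓ⟩
  obtain ⟨T, hT⟩ := Sylow.exists_subgroup_card_pow_prime ℓ hG
  have hTab : ∀ a b : T, a * b = b * a :=
    (IsPGroup.isMulCommutative_of_card_eq_prime_sq hT).is_comm.comm
  obtain ⟨z, hz⟩ := exists_prime_orderOf_dvd_card' (G := T) ℓ
    (by rw [hT]; exact dvd_pow_self ℓ (by norm_num))
  have hzG : orderOf (z : G) = ℓ := by rw [Subgroup.orderOf_coe]; exact hz
  have hirr := irr_of_ppd n hV ℓ hℓ hdvd hppd (ρ z)
    (by rw [← map_pow, ← hzG, pow_orderOf_eq_one, map_one]) (by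
      intro h1
      have : (z : G) = 1 := hρ (h1.trans (map_one ρ).symm)
      rw [this, orderOf_one] at hzG
      exact hℓ.one_lt.ne hzG)
  obtain ⟨v₀, hv₀⟩ := exists_ne (0 : V)
  have hirr' : ∀ W : Submodule (ZMod q) V, (∀ v ∈ W, toEnd ρ (z : G) v ∈ W) → W = ⊥ ∨ W = ⊤ :=
    hirr
  have hF := FA_isField (toEnd ρ (z : G)) hirr' v₀ hv₀
  letI : Field (FA (toEnd (q := q) ρ (z : G))) := hF.toField
  let f : T →* FA (toEnd (q := q) ρ (z : G)) :=
    { toFun := fun t => ⟨toEnd ρ (t : G), mem_of_commute _ hirr' v₀ hv₀ _ (by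
        rw [← map_mul, ← map_mul]
        congr 1
        exact congrArg Subtype.val (hTab t z))⟩
      map_one' := by
        apply Subtype.ext
        show toEnd ρ ((1 : T) : G) = 1
        rw [Subgroup.coe_one, map_one]
      map_mul' := fun a b => by
        apply Subtype.ext
        show toEnd ρ ((a * b : T) : G) = toEnd ρ a * toEnd ρ b
        rw [Subgroup.coe_mul, map_mul] }
  have hfinj : Function.Injective f := by
    intro a b hab
    have h1 : toEnd ρ (a : G) = toEnd ρ (b : G) := congrArg Subtype.val hab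
    exact Subtype.ext (toEnd_injective ρ hρ h1)
  haveI : IsCyclic T := isCyclic_of_injective_ringHom f hfinj
  obtain ⟨t, ht⟩ := IsCyclic.exists_ofOrder_eq_natCard (α := T)
  exact ⟨t, by rw [Subgroup.orderOf_coe, ht, hT]⟩

/-- the main dichotomy for a primitive prime divisor -/
theorem caseB [Finite V] [Nontrivial V] [Finite G] (hsol : Group.IsSolvable G)
    (ρ : G →* (V ≃ₗ[ZMod q] V)) (hρ : Function.Injective ρ)
    (htrans : ∀ v w : V, v ≠ 0 → w ≠ 0 → ∃ g : G, ρ g v = w)
    (n : ℕ) (hV : Nat.card V = q ^ n)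
    (ℓ : ℕ) (hℓ : ℓ.Prime) (hdvd : ℓ ∣ q ^ n - 1) (hppd : ∀ i, 1 ≤ i → i < n → ¬ ℓ ∣ q ^ i - 1)
    (b : ℕ) (hb : 1 ≤ b) (h : G) (hord : orderOf h = ℓ ^ b) :
    (∃ (F : Type) (_ : Field F) (_ : Fintype F) (e : V ≃+ F),
        ∀ g : G, ∃ (a : F) (σ : F ≃+* F), ∀ v : V, e (ρ g v) = a * σ (e v)) ∨
    ∃ (r k : ℕ), r.Prime ∧ r ≠ q ∧ 1 ≤ k ∧ r ^ k ≤ n ∧ ℓ ^ b ∣ r ^ k * r ^ k - 1 := by
  classical
  haveI : Fact ℓ.Prime := ⟨hℓ⟩
  obtain ⟨g, hg⟩ : ∃ g : G, g = h ^ ℓ ^ (b - 1) := ⟨_, rfl⟩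
  have hgord : orderOf g = ℓ := by
    rw [hg, orderOf_pow' _ (pow_pos hℓ.pos _).ne', hord,
      Nat.gcd_eq_right (pow_dvd_pow ℓ (Nat.sub_le b 1)), Nat.pow_div (Nat.sub_le b 1) hℓ.pos]
    have : b - (b - 1) = 1 := by omega
    rw [this, pow_one]
  have hg1 : g ≠ 1 := by
    intro h1; rw [h1, orderOf_one] at hgord; exact hℓ.one_lt.ne hgord
  have hgz : g ∈ Subgroup.zpowers h := hg ▸ Subgroup.pow_mem _ (Subgroup.mem_zpowers h) _
  have hirr_of : ∀ x : G, orderOf x = ℓ → ∀ W : Submodule (ZMod q) V,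
      (∀ v ∈ W, ρ x v ∈ W) → W = ⊥ ∨ W = ⊤ := by
    intro x hx
    apply irr_of_ppd n hV ℓ hℓ hdvd hppd (ρ x)
    · rw [← map_pow, ← hx, pow_orderOf_eq_one, map_one]
    · intro h1
      have : x = 1 := hρ (h1.trans (map_one ρ).symm)
      rw [this, orderOf_one] at hx
      exact hℓ.one_lt.ne hx
  have hirr := hirr_of g hgord
  by_cases hA : ∃ N : Subgroup G, N.Normal ∧ IsPGroup ℓ N ∧ N ≠ ⊥
  · left
    obtain ⟨N, hN, hNℓ, hNbot⟩ := hA
    haveI := hN
    haveI : Nontrivial N := (Subgroup.nontrivial_iff_ne_bot N).mpr hNbot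
    haveI : Nontrivial (Subgroup.center N) := hNℓ.center_nontrivial
    let Z : Subgroup G := (Subgroup.center N).map N.subtype
    haveI : Z.Normal := ConjAct.normal_of_characteristic_of_normal
    have hZab : ∀ a ∈ Z, ∀ b ∈ Z, a * b = b * a := by
      rintro _ ⟨a, ha, rfl⟩ _ ⟨b, hb, rfl⟩
      have ha' : a ∈ Subgroup.center N := ha
      rw [Subgroup.mem_center_iff] at ha'
      have := ha' b
      exact congrArg Subtype.val this.symm
    have hZℓ : IsPGroup ℓ (Subgroup.center N) := hNℓ.to_subgroup _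
    obtain ⟨m, hm⟩ := IsPGroup.iff_card.mp hZℓ
    have hm0 : m ≠ 0 := by
      rintro rfl
      rw [pow_zero] at hm
      have := Finite.one_lt_card_iff_nontrivial.mpr (inferInstance : Nontrivial (Subgroup.center N))
      omega
    obtain ⟨x, hx⟩ := exists_prime_orderOf_dvd_card' (G := Subgroup.center N) ℓ
      (by rw [hm]; exact dvd_pow_self ℓ hm0)
    have hxG : orderOf (((x : N) : G)) = ℓ := by
      rw [Subgroup.orderOf_coe, Subgroup.orderOf_coe]; exact hx
    have hxZ : ((x : N) : G) ∈ Z := ⟨x, x.2, rfl⟩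
    exact sl_of_abelian ρ htrans Z hZab (BA_big_of_irr ρ Z _ hxZ (hirr_of _ hxG))
  · push Not at hA
    right
    have hex : ∃ (r : ℕ) (_ : Fact r.Prime) (R : Subgroup G), R.Normal ∧ IsPGroup r R ∧
        ∃ y ∈ R, y * g ≠ g * y := by
      by_contra hcon
      push Not at hcon
      obtain ⟨N, hN, hNℓ, hgN⟩ := mem_normal_pgroup hsol ℓ g 1 (by rw [hgord, pow_one])
        (fun r _ R hR hRr y hy => hcon r inferInstance R hR hRr y hy)
      have := hA N hN hNℓ
      rw [this, Subgroup.mem_bot] at hgN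
      exact hg1 hgN
    obtain ⟨r, hrF, R, hRn, hRr, y₀, hy₀R, hy₀g⟩ := hex
    have hr : r.Prime := hrF.out
    have hrℓ : r ≠ ℓ := by
      rintro rfl
      have := hA R hRn hRr
      rw [this, Subgroup.mem_bot] at hy₀R
      apply hy₀g; rw [hy₀R, one_mul, mul_one]
    have hrq : r ≠ q := by
      rintro rfl
      haveI := hRn
      have := oq_trivial ρ hρ htrans R hRr
      rw [this, Subgroup.mem_bot] at hy₀R
      apply hy₀g; rw [hy₀R, one_mul, mul_one]
    obtain ⟨P, hPR, hPz, hPnc, hP7, hP8, hP5, hP10⟩ := minP ℓ r b hℓ hr hrℓ hb h hord R hRr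
      (fun x hx => hRn.conj_mem x hx h) g hg ⟨y₀, hy₀R, hy₀g⟩
    have hPr : IsPGroup r P := hRr.to_le hPR
    have hcopP : Nat.Coprime (Nat.card P) q := by
      obtain ⟨m, hm⟩ := IsPGroup.iff_card.mp hPr
      rw [hm]
      apply Nat.Coprime.pow_left
      rw [Nat.coprime_primes hr (Fact.out : q.Prime)]
      exact hrq
    rcases hP10 with hcen | ⟨hab, hfpf⟩
    swap
    · exfalso
      obtain ⟨x, hx, hxg⟩ := hPnc
      exact abelian_contra ρ hρ g ℓ hℓ hgord hirr P
        (fun y hy x hx => hPz y (Subgroup.zpowers_le.mpr hgz hy) x hx) hcopP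
        ⟨x, hx, fun h1 => hxg (by rw [h1, one_mul, mul_one])⟩ hfpf
    let D : Subgroup G :=
      { carrier := {x | x ∈ P ∧ x * g = g * x}
        mul_mem' := by
          rintro a b ⟨ha, hag⟩ ⟨hb, hbg⟩
          exact ⟨mul_mem ha hb, by rw [mul_assoc, hbg, ← mul_assoc, hag, mul_assoc]⟩
        one_mem' := ⟨one_mem _, by rw [one_mul, mul_one]⟩
        inv_mem' := by
          rintro a ⟨ha, hag⟩
          refine ⟨inv_mem ha, ?_⟩
          have : Commute a g := hag
          exact this.inv_left.eq }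
    have hDP : D ≤ P := fun x hx => hx.1
    have hDc : ∀ d ∈ D, ∀ x ∈ P, d * x = x * d := fun d hd x hx => hP7 d hd.1 hd.2 x hx
    have hcomm : ∀ x ∈ P, ∀ y ∈ P, x * y * x⁻¹ * y⁻¹ ∈ D := fun x hx y hy =>
      ⟨mul_mem (mul_mem (mul_mem hx hy) (inv_mem hx)) (inv_mem hy), hP8 x hx y hy⟩
    obtain ⟨v₀, hv₀⟩ := exists_ne (0 : V)
    have hirr' : ∀ W : Submodule (ZMod q) V, (∀ v ∈ W, toEnd ρ g v ∈ W) → W = ⊥ ∨ W = ⊤ := hirr
    have hDmemFA : ∀ d ∈ D, toEnd ρ d ∈ FA (toEnd (q := q) ρ g) := by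
      intro d hd
      apply mem_of_commute _ hirr' v₀ hv₀
      rw [← map_mul, ← map_mul, hd.2]
    have hnd : ∀ u ∈ P, u ∉ D → ∃ y ∈ P,
        Function.Injective ((toEnd ρ (u⁻¹ * y⁻¹ * u * y) - 1 : Module.End (ZMod q) V)) := by
      intro u hu huD
      have hnc : ¬ ∀ y ∈ P, u * y = y * u := fun hall => huD ⟨hu, hcen u hu hall⟩
      push Not at hnc
      obtain ⟨y, hy, huy⟩ := hnc
      refine ⟨y, hy, ?_⟩
      have hcD : u⁻¹ * y⁻¹ * u * y ∈ D := by
        have := hcomm u⁻¹ (inv_mem hu) y⁻¹ (inv_mem hy)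
        simpa using this
      have hc1 : u⁻¹ * y⁻¹ * u * y ≠ 1 := by
        intro h1
        apply huy
        have : u * y = y * u * (u⁻¹ * y⁻¹ * u * y) := by group
        rw [this, h1, mul_one]
      apply inj_of_ne_zero (toEnd ρ g) hirr'
      · exact sub_mem (hDmemFA _ hcD) (one_mem _)
      · intro h0
        apply hc1
        apply toEnd_injective ρ hρ
        rw [map_one]
        exact sub_eq_zero.mp h0
    have hidx := index_le ρ n hV P D hDP hDc hcomm hnd hcopP
    -- cyclicity of D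
    have hF := FA_isField (toEnd ρ g) hirr' v₀ hv₀
    letI : Field (FA (toEnd (q := q) ρ g)) := hF.toField
    let f : D →* FA (toEnd (q := q) ρ g) :=
      { toFun := fun t => ⟨toEnd ρ (t : G), hDmemFA t t.2⟩
        map_one' := by
          apply Subtype.ext
          show toEnd ρ ((1 : D) : G) = 1
          rw [Subgroup.coe_one, map_one]
        map_mul' := fun a b => by
          apply Subtype.ext
          show toEnd ρ ((a * b : D) : G) = toEnd ρ a * toEnd ρ b
          rw [Subgroup.coe_mul, map_mul] }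
    have hfinj : Function.Injective f := by
      intro a b hab
      have h1 : toEnd ρ (a : G) = toEnd ρ (b : G) := congrArg Subtype.val hab
      exact Subtype.ext (toEnd_injective ρ hρ h1)
    have hDcyc : IsCyclic D := isCyclic_of_injective_ringHom f hfinj
    have hDsub : D.subgroupOf P ≤ Subgroup.center P := by
      intro d hd
      rw [Subgroup.mem_center_iff]
      intro x
      apply Subtype.ext
      exact (hDc d hd x x.2).symm
    have hcenEq : Subgroup.center P = D.subgroupOf P := by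
      apply le_antisymm _ hDsub
      intro x hx
      rw [Subgroup.mem_center_iff] at hx
      rw [Subgroup.mem_subgroupOf]
      refine ⟨x.2, hcen x x.2 ?_⟩
      intro y hy
      exact congrArg Subtype.val (hx ⟨y, hy⟩).symm
    obtain ⟨k, hk⟩ := sq_index (Nat.card P) P rfl r hr (D.subgroupOf P) hDsub
      ((Subgroup.subgroupOfEquivOfLe hDP).isCyclic.mpr hDcyc) (hPr.to_le hDP).comap_subtype
      (by
        intro x y
        rw [Subgroup.mem_subgroupOf]
        exact hcomm x x.2 y y.2)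
    rw [hcenEq] at hk
    have hk' : D.relIndex P = r ^ (2 * k) := hk
    have hk1 : 1 ≤ k := by
      by_contra hk0
      have : k = 0 := by omega
      rw [this, mul_zero, pow_zero, Subgroup.relIndex_eq_one] at hk'
      obtain ⟨x, hx, hxg⟩ := hPnc
      exact hxg (hk' hx).2
    have hDz : ∀ y ∈ Subgroup.zpowers h, ∀ x ∈ D, y * x * y⁻¹ ∈ D := by
      intro y hy x hx
      refine ⟨hPz y hy x hx.1, ?_⟩
      obtain ⟨a, rfl⟩ := Subgroup.mem_zpowers_iff.mp hy
      have c1 : Commute (h ^ a) g := by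
        rw [hg]; exact ((Commute.refl h).zpow_left a).pow_right _
      have c2 : Commute x g := hx.2
      exact ((c1.mul_left c2).mul_left c1.inv_left).eq
    have hfree : ∀ y ∈ Subgroup.zpowers h, y ≠ 1 → ∀ x ∈ P, x⁻¹ * (y * x * y⁻¹) ∈ D → x ∈ D :=
      fun y hy hy1 x hx hmem => ⟨hx, hP5 y hy hy1 x hx hmem.2⟩
    have hcount := free_count h ℓ b r hℓ hr hrℓ hord P D hDP hPr hPz hDz hfree
    have hpow : r ^ (2 * k) = r ^ k * r ^ k := by rw [two_mul, pow_add]
    rw [hk', hpow] at hcount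
    rw [hk', hpow] at hidx
    exact ⟨r, k, hr, hrq, hk1, Nat.mul_self_le_mul_self_iff.mp hidx, hcount⟩

end

end Cfsg.Agent.Lib.Helper63.Hup4
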