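import Mathlib
import Cfsg.Agent.Lib.Helper63.SemiLin
import Cfsg.Agent.Lib.Helper63.Hup1
import Cfsg.Agent.Lib.Helper63.Hup4

/-!
# Huppert's theorem in dimension two (helper63)
-/

set_option autoImplicit false

namespace Cfsg.Agent.Lib.Helper63.Hup2

open Cfsg.Agent.Lib.Helper63.SemiLin Cfsg.Agent.Lib.Helper63.Hup1 Cfsg.Agent.Lib.Helper63.Hup4

/-- the automorphism group of a group with at most four elements has order dividing six -/
theorem aut_card_dvd_six (Q : Type*) [Group Q] [Finite Q] (hQ : Nat.card Q ≤ 4) :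
    Nat.card (MulAut Q) ∣ 6 := by
  classical
  haveI : Fintype Q := Fintype.ofFinite Q
  let f : MulAut Q →* Equiv.Perm {x : Q // x ≠ 1} :=
    { toFun := fun φ => (MulEquiv.toEquiv φ).subtypeEquiv (fun a => by
        show a ≠ 1 ↔ φ a ≠ 1
        rw [Ne, Ne, map_eq_one_iff φ (MulEquiv.injective φ)])
      map_one' := by ext x; rfl
      map_mul' := fun a b => by ext x; rfl }
  have hf : Function.Injective f := by
    intro a b hab
    ext x
    by_cases hx : x = 1
    · rw [hx, map_one, map_one]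
    · have := congrArg (fun σ : Equiv.Perm {x : Q // x ≠ 1} => ((σ ⟨x, hx⟩ : {x : Q // x ≠ 1}) : Q)) hab
      exact this
  have h1 := Subgroup.card_dvd_of_injective f hf
  have h2 : Nat.card (Equiv.Perm {x : Q // x ≠ 1}) = (Nat.card Q - 1).factorial := by
    rw [Nat.card_eq_fintype_card, Fintype.card_perm, ← Nat.card_eq_fintype_card]
    congr 1
    rw [Nat.card_eq_fintype_card, Nat.card_eq_fintype_card,
      Fintype.card_subtype_compl (fun v : Q => v = 1)]
    simp
  rw [h2] at h1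
  have h3 : (Nat.card Q - 1).factorial ∣ Nat.factorial 3 :=
    Nat.factorial_dvd_factorial (by omega)
  exact h1.trans h3

section
variable {q : ℕ} [Fact q.Prime] {V : Type*} [AddCommGroup V] [Module (ZMod q) V]

theorem smul_one_inj [Nontrivial V] (c d : ZMod q)
    (h : c • (1 : Module.End (ZMod q) V) = d • (1 : Module.End (ZMod q) V)) : c = d := by
  obtain ⟨v₀, hv₀⟩ := exists_ne (0 : V)
  have := congrArg (fun f : Module.End (ZMod q) V => f v₀) h
  simp only [LinearMap.smul_apply, Module.End.one_apply] at this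
  exact smul_left_injective (ZMod q) hv₀ this

/-- in dimension two, anything commuting with two anticommuting invertible maps is scalar -/
theorem anticomm_scalar [Finite V] [Nontrivial V] (hfr : Module.finrank (ZMod q) V = 2)
    (h2 : (2 : ZMod q) ≠ 0) (X₁ X₂ Y₁ Y₂ : Module.End (ZMod q) V) (h11 : X₁ * Y₁ = 1)
    (h22 : X₂ * Y₂ = 1) (hanti : X₁ * X₂ = -(X₂ * X₁))
    (Y : Module.End (ZMod q) V) (hY1 : Y * X₁ = X₁ * Y) (hY2 : Y * X₂ = X₂ * Y) :
    ∃ c : ZMod q, Y = c • (1 : Module.End (ZMod q) V) := by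
  classical
  have hanti' : X₂ * X₁ = -(X₁ * X₂) := by rw [hanti, neg_neg]
  -- basic independence
  have L0 : ∀ a b : ZMod q, a • (1 : Module.End (ZMod q) V) + b • X₁ = 0 → a = 0 ∧ b = 0 := by
    intro a b h
    have h' : a • (1 : Module.End (ZMod q) V) - b • X₁ = 0 := by
      have e : X₂ * (a • (1 : Module.End (ZMod q) V) + b • X₁) * Y₂ = 0 := by
        rw [h, mul_zero, zero_mul]
      rw [mul_add, add_mul, mul_smul_comm, smul_mul_assoc, mul_one, h22, mul_smul_comm,
        smul_mul_assoc, hanti', neg_mul, mul_assoc, h22, mul_one, smul_neg] at e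
      rw [sub_eq_add_neg]; exact e
    have ha : a = 0 := by
      have e : (2 * a) • (1 : Module.End (ZMod q) V) = 0 := by
        have := congrArg₂ (· + ·) h h'
        simp only [add_zero] at this
        rw [mul_smul, two_smul]
        rw [← this]; abel
      have := smul_one_inj (V := V) (2 * a) 0 (by rw [e, zero_smul])
      exact (mul_eq_zero.mp this).resolve_left h2
    refine ⟨ha, ?_⟩
    rw [ha, zero_smul, zero_add] at h
    have e : b • (1 : Module.End (ZMod q) V) = 0 := by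
      have := congrArg (· * Y₁) h
      simp only [zero_mul, smul_mul_assoc, h11] at this
      exact this
    exact smul_one_inj (V := V) b 0 (by rw [e, zero_smul])
  let bb : Fin 4 → Module.End (ZMod q) V := ![1, X₁, X₂, X₁ * X₂]
  have hli : LinearIndependent (ZMod q) bb := by
    rw [Fintype.linearIndependent_iff]
    intro g hsum
    rw [Fin.sum_univ_four] at hsum
    have hR : g 0 • (1 : Module.End (ZMod q) V) + g 1 • X₁ + g 2 • X₂ + g 3 • (X₁ * X₂) = 0 :=
      hsum
    -- conjugate by X₁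
    have hR' : g 0 • (1 : Module.End (ZMod q) V) + g 1 • X₁ - g 2 • X₂ - g 3 • (X₁ * X₂) = 0 := by
      have e : X₁ * (g 0 • (1 : Module.End (ZMod q) V) + g 1 • X₁ + g 2 • X₂ + g 3 • (X₁ * X₂))
          * Y₁ = 0 := by rw [hR, mul_zero, zero_mul]
      have e1 : X₁ * X₂ * Y₁ = -X₂ := by rw [hanti, neg_mul, mul_assoc, h11, mul_one]
      have e2 : X₁ * (X₁ * X₂) * Y₁ = -(X₁ * X₂) := by
        rw [mul_assoc, mul_assoc, ← mul_assoc X₁ X₂ Y₁, e1, mul_neg]
      rw [mul_add, mul_add, mul_add, add_mul, add_mul, add_mul] at e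
      simp only [mul_smul_comm, smul_mul_assoc, mul_one, h11, e1, e2, smul_neg] at e
      rw [mul_assoc, h11, mul_one] at e
      rw [sub_eq_add_neg, sub_eq_add_neg]; exact e
    have h2inv : (2 : ZMod q)⁻¹ * 2 = 1 := inv_mul_cancel₀ h2
    have hA : g 0 • (1 : Module.End (ZMod q) V) + g 1 • X₁ = 0 := by
      have := congrArg₂ (· + ·) hR hR'
      simp only [add_zero] at this
      have e : (2 : ZMod q) • (g 0 • (1 : Module.End (ZMod q) V) + g 1 • X₁) = 0 := by
        rw [two_smul, ← this]; abel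
      have := congrArg ((2 : ZMod q)⁻¹ • ·) e
      simp only [smul_smul, h2inv, one_smul, smul_zero] at this
      exact this
    have hB : g 2 • (1 : Module.End (ZMod q) V) + g 3 • X₁ = 0 := by
      have e : (g 2 • (1 : Module.End (ZMod q) V) + g 3 • X₁) * X₂ = 0 := by
        rw [add_mul, smul_mul_assoc, one_mul, smul_mul_assoc]
        have : g 2 • X₂ + g 3 • (X₁ * X₂) =
            (g 0 • (1 : Module.End (ZMod q) V) + g 1 • X₁ + g 2 • X₂ + g 3 • (X₁ * X₂)) -
            (g 0 • (1 : Module.End (ZMod q) V) + g 1 • X₁) := by abel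
        rw [this, hR, hA, sub_zero]
      have := congrArg (· * Y₂) e
      simp only [zero_mul, mul_assoc, h22, mul_one] at this
      exact this
    obtain ⟨h0, h1⟩ := L0 _ _ hA
    obtain ⟨h2', h3⟩ := L0 _ _ hB
    intro i
    fin_cases i
    · exact h0
    · exact h1
    · exact h2'
    · exact h3
  have hfrE : Module.finrank (ZMod q) (Module.End (ZMod q) V) = 4 := by
    rw [Module.finrank_linearMap, hfr]
  have hspan := hli.span_eq_top_of_card_eq_finrank' (by rw [hfrE]; rfl)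
  have hYc : Y ∈ Subalgebra.center (ZMod q) (Module.End (ZMod q) V) := by
    rw [Subalgebra.mem_center_iff]
    intro x
    have hx : x ∈ Submodule.span (ZMod q) (Set.range bb) := by rw [hspan]; exact Submodule.mem_top
    induction hx using Submodule.span_induction with
    | mem x hx =>
      obtain ⟨i, rfl⟩ := hx
      fin_cases i
      · show 1 * Y = Y * 1
        rw [one_mul, mul_one]
      · exact hY1.symm
      · exact hY2.symm
      · show X₁ * X₂ * Y = Y * (X₁ * X₂)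
        rw [mul_assoc, ← hY2, ← mul_assoc, ← hY1, mul_assoc]
    | zero => rw [zero_mul, mul_zero]
    | add x y _ _ hx hy => rw [add_mul, mul_add, hx, hy]
    | smul a x _ hx => rw [smul_mul_assoc, mul_smul_comm, hx]
  rw [Algebra.IsCentral.mem_center_iff] at hYc
  obtain ⟨c, hc⟩ := hYc
  exact ⟨c, by rw [hc, Algebra.algebraMap_eq_smul_one]⟩

end

theorem arith24 (q zc a b c : ℕ) (hq : q.Prime) (hq2 : q ≠ 2) (hz : zc ∣ q - 1) (ha : a = 1 ∨ a = 2)
    (hb : b = 1 ∨ b = 2) (hc : c ∣ 6) (h : q ^ 2 - 1 ∣ zc * (a * b * c)) :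
    q = 3 ∨ q = 5 ∨ q = 7 ∨ q = 11 ∨ q = 23 := by
  have h1 : a * b ∣ 4 := by
    rcases ha with rfl | rfl <;> rcases hb with rfl | rfl <;> norm_num
  have h2 : zc * (a * b * c) ∣ (q - 1) * 24 := by
    have : (24 : ℕ) = 4 * 6 := by norm_num
    rw [this]
    exact Nat.mul_dvd_mul hz (Nat.mul_dvd_mul h1 hc)
  have h3 : q ^ 2 - 1 = (q - 1) * (q + 1) := by
    have h1q : 1 ≤ q := hq.one_lt.le
    have hqq : 1 ≤ q ^ 2 := Nat.one_le_pow _ _ h1q
    zify [hqq, h1q]
    ring
  rw [h3] at h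
  have h4 : (q - 1) * (q + 1) ∣ (q - 1) * 24 := h.trans h2
  have hq1 : 0 < q - 1 := by have := hq.two_le; omega
  have h5 : q + 1 ∣ 24 := Nat.dvd_of_mul_dvd_mul_left hq1 h4
  have h6 : q + 1 ≤ 24 := Nat.le_of_dvd (by norm_num) h5
  have h7 : q ≤ 23 := by omega
  by_contra hcon
  push Not at hcon
  obtain ⟨c1, c2, c3, c4, c5⟩ := hcon
  clear h h2 h3 h4 hq1 h6 hz
  interval_cases q <;> first | omega | (revert h5; decide) | (exact absurd hq (by norm_num))

section
variable {q : ℕ} [Fact q.Prime] {V : Type*} [AddCommGroup V] [Module (ZMod q) V]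
  {G : Type*} [Group G]

/-- Huppert's theorem in dimension two -/
theorem dim_two [Finite V] [Nontrivial V] [Finite G] (hsol : Group.IsSolvable G)
    (ρ : G →* (V ≃ₗ[ZMod q] V)) (hρ : Function.Injective ρ)
    (htrans : ∀ v w : V, v ≠ 0 → w ≠ 0 → ∃ g : G, ρ g v = w) (hV : Nat.card V = q ^ 2) :
    (∃ (F : Type) (_ : Field F) (_ : Fintype F) (e : V ≃+ F),
        ∀ g : G, ∃ (a : F) (σ : F ≃+* F), ∀ v : V, e (ρ g v) = a * σ (e v)) ∨
    q = 3 ∨ q = 5 ∨ q = 7 ∨ q = 11 ∨ q = 23 := by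
  classical
  have hq : q.Prime := Fact.out
  haveI := hsol
  haveI : Finite (Module.End (ZMod q) V) := DFunLike.finite (V →ₗ[ZMod q] V)
  obtain ⟨v₀, hv₀⟩ := exists_ne (0 : V)
  let φ := toEnd (q := q) ρ
  have hfr : Module.finrank (ZMod q) V = 2 := by
    have := Module.natCard_eq_pow_finrank (K := ZMod q) (V := V)
    rw [hV, Nat.card_zmod] at this
    exact (Nat.pow_right_injective hq.two_le this).symm
  let Z : Subgroup G :=
    { carrier := {g | ∃ c : ZMod q, φ g = c • (1 : Module.End (ZMod q) V)}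
      mul_mem' := by
        rintro a b ⟨c, hc⟩ ⟨d, hd⟩
        exact ⟨c * d, by rw [map_mul, hc, hd, smul_mul_smul_comm, mul_one]⟩
      one_mem' := ⟨1, by rw [map_one, one_smul]⟩
      inv_mem' := by
        rintro a ⟨c, hc⟩
        have hc0 : c ≠ 0 := by
          rintro rfl
          rw [zero_smul] at hc
          have := toEnd_apply_inv ρ a v₀
          rw [show toEnd ρ a = (0 : Module.End (ZMod q) V) from hc] at this
          exact hv₀ this.symm
        refine ⟨c⁻¹, ?_⟩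
        have h1 : φ a * φ a⁻¹ = 1 := by rw [← map_mul, mul_inv_cancel, map_one]
        rw [hc, smul_mul_assoc, one_mul] at h1
        rw [← h1, smul_smul, inv_mul_cancel₀ hc0, one_smul] }
  have hZc : ∀ z ∈ Z, ∀ g : G, z * g = g * z := by
    rintro z ⟨c, hc⟩ g
    apply toEnd_injective ρ hρ
    rw [map_mul, map_mul]
    show φ z * φ g = φ g * φ z
    rw [hc, smul_mul_assoc, mul_smul_comm, one_mul, mul_one]
  haveI hZn : Z.Normal :=
    ⟨fun z hz g => by rw [← hZc z hz g, mul_inv_cancel_right]; exact hz⟩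
  have hZcard : Nat.card Z ∣ q - 1 := by
    let sc : Z → ZMod q := fun z => Classical.choose z.2
    have hsc : ∀ z : Z, φ (z : G) = sc z • (1 : Module.End (ZMod q) V) :=
      fun z => Classical.choose_spec z.2
    let f : Z →* ZMod q :=
      { toFun := sc
        map_one' := by
          apply smul_one_inj (V := V); rw [← hsc, Subgroup.coe_one, map_one, one_smul]
        map_mul' := fun a b => by
          apply smul_one_inj (V := V)
          rw [← hsc, Subgroup.coe_mul, map_mul, hsc, hsc, smul_mul_smul_comm, mul_one] }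
    have hfinj : Function.Injective f.toHomUnits := by
      intro a b hab
      have h1 : sc a = sc b := by
        have := congrArg (fun u : (ZMod q)ˣ => (u : ZMod q)) hab
        simp only [MonoidHom.coe_toHomUnits] at this
        exact this
      apply Subtype.ext
      apply toEnd_injective ρ hρ
      show φ a = φ b
      rw [hsc, hsc, h1]
    have := Subgroup.card_dvd_of_injective f.toHomUnits hfinj
    rw [Nat.card_units, Nat.card_zmod] at this
    exact this
  have hGZ : ∃ g : G, g ∉ Z := by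
    have hex : ∃ w : V, ∀ c : ZMod q, w ≠ c • v₀ := by
      by_contra hcon
      push Not at hcon
      have hsurj : Function.Surjective (fun c : ZMod q => c • v₀) := fun w => by
        obtain ⟨c, hc⟩ := hcon w; exact ⟨c, hc.symm⟩
      have := Nat.card_le_card_of_surjective _ hsurj
      rw [hV, Nat.card_zmod] at this
      nlinarith [hq.two_le]
    obtain ⟨w, hw⟩ := hex
    have hw0 : w ≠ 0 := fun h0 => hw 0 (by rw [h0, zero_smul])
    obtain ⟨g, hg⟩ := htrans v₀ w hv₀ hw0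
    refine ⟨g, ?_⟩
    rintro ⟨c, hc⟩
    apply hw c
    rw [← hg]
    have := congrArg (fun f : Module.End (ZMod q) V => f v₀) hc
    simp only [LinearMap.smul_apply, Module.End.one_apply] at this
    exact this
  by_cases hH : ∃ A : Subgroup G, A.Normal ∧ (∀ a ∈ A, ∀ b ∈ A, a * b = b * a) ∧ ¬ A ≤ Z
  · left
    obtain ⟨A, hAn, hAab, hAZ⟩ := hH
    haveI := hAn
    obtain ⟨a, haA, haZ⟩ := SetLike.not_le_iff_exists.mp hAZ
    apply sl_of_abelian ρ htrans A hAab
    have hinj : Function.Injective (fun p : ZMod q × ZMod q =>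
        (⟨p.1 • (1 : Module.End (ZMod q) V) + p.2 • φ a,
          add_mem (Subalgebra.smul_mem _ (one_mem _) _)
            (Subalgebra.smul_mem _ (mem_BA ρ A haA) _)⟩ : BA ρ A)) := by
      rintro ⟨c, d⟩ ⟨c', d'⟩ hcd
      have h1 : c • (1 : Module.End (ZMod q) V) + d • φ a = c' • 1 + d' • φ a :=
        congrArg Subtype.val hcd
      have hdd : d = d' := by
        by_contra hne
        apply haZ
        have h2 : (d - d') • φ a = (c' - c) • (1 : Module.End (ZMod q) V) := by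
          rw [sub_smul, sub_smul, sub_eq_sub_iff_add_eq_add, add_comm]
          exact h1
        refine ⟨(d - d')⁻¹ * (c' - c), ?_⟩
        rw [← smul_smul, ← h2, smul_smul, inv_mul_cancel₀ (sub_ne_zero.mpr hne), one_smul]
      subst hdd
      have hcc : c = c' := smul_one_inj (V := V) c c' (add_right_cancel h1)
      rw [hcc]
    have := Nat.card_le_card_of_injective _ hinj
    rw [Nat.card_prod, Nat.card_zmod] at this
    rw [hV, pow_two]; exact this
  push Not at hH
  right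
  obtain ⟨N, ⟨hNn, hNZ⟩, hNmin⟩ := Set.exists_min_image {N : Subgroup G | N.Normal ∧ ¬ N ≤ Z}
    (fun N => Nat.card N) (Set.toFinite _)
    ⟨⊤, inferInstance, fun h => by obtain ⟨g, hg⟩ := hGZ; exact hg (h (Subgroup.mem_top g))⟩
  haveI := hNn
  have hN' : ⁅N, N⁆ ≤ Z := by
    by_contra hcon
    have hle : ⁅N, N⁆ ≤ N := Subgroup.commutator_le_left N N
    have hcard := hNmin ⁅N, N⁆ ⟨Subgroup.commutator_normal N N, hcon⟩
    have heq := Subgroup.eq_of_le_of_card_ge hle hcard
    haveI : Nontrivial N := by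
      rw [Subgroup.nontrivial_iff_ne_bot]
      rintro rfl
      exact hNZ bot_le
    have hlt := Group.IsSolvable.commutator_lt_top_of_nontrivial N
    have h1 : (commutator N).map N.subtype = (⊤ : Subgroup N).map N.subtype := by
      rw [Subgroup.map_subtype_commutator, heq, ← MonoidHom.range_eq_map, Subgroup.range_subtype]
    exact (lt_top_iff_ne_top.mp hlt) (Subgroup.map_injective N.subtype_injective h1)
  have hNnab : ∃ x₁ ∈ N, ∃ x₂ ∈ N, x₁ * x₂ ≠ x₂ * x₁ := by
    by_contra hcon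
    push Not at hcon
    exact hNZ (hH N hNn hcon)
  obtain ⟨x₁, hx₁, x₂, hx₂, hx12⟩ := hNnab
  obtain ⟨z₀, hz₀⟩ : ∃ z₀ : G, z₀ = x₁ * x₂ * x₁⁻¹ * x₂⁻¹ := ⟨_, rfl⟩
  have hcommN : ∀ u ∈ N, ∀ x ∈ N, u * x * u⁻¹ * x⁻¹ ∈ Z := by
    intro u hu x hx
    apply hN'
    have := Subgroup.commutator_mem_commutator hu hx
    rwa [commutatorElement_def] at this
  have hz₀Z : z₀ ∈ Z := hz₀ ▸ hcommN x₁ hx₁ x₂ hx₂
  have hz₀1 : z₀ ≠ 1 := by
    intro h1
    apply hx12
    have : x₁ * x₂ = (x₁ * x₂ * x₁⁻¹ * x₂⁻¹) * (x₂ * x₁) := by group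
    rw [this, ← hz₀, h1, one_mul]
  have hdetZ : ∀ z ∈ Z, LinearEquiv.det (ρ z) = 1 → φ z = 1 ∨ φ z = -1 := by
    rintro z ⟨c, hc⟩ hdet
    have h1 : LinearMap.det (φ z) = 1 := by
      have := LinearEquiv.coe_det (ρ z)
      rw [hdet] at this
      exact this.symm
    rw [hc, LinearMap.det_smul, hfr] at h1
    have hdet1 : LinearMap.det (1 : Module.End (ZMod q) V) = 1 := LinearMap.det_id
    rw [hdet1, mul_one] at h1
    have h2 : (c - 1) * (c + 1) = 0 := by linear_combination h1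
    rcases mul_eq_zero.mp h2 with h3 | h3
    · left; rw [hc, sub_eq_zero.mp h3, one_smul]
    · right; rw [hc, eq_neg_of_add_eq_zero_left h3, neg_smul, one_smul]
  have hdetcomm : ∀ a b : G, LinearEquiv.det (ρ (a * b * a⁻¹ * b⁻¹)) = 1 := by
    intro a b
    rw [map_mul, map_mul, map_mul, map_inv, map_inv, map_mul, map_mul, map_mul, map_inv, map_inv]
    rw [mul_comm (LinearEquiv.det (ρ a)), mul_inv_cancel_right, mul_inv_cancel]
  have hφz₀ : φ z₀ = -1 := by
    rcases hdetZ z₀ hz₀Z (by rw [hz₀]; exact hdetcomm x₁ x₂) with h | h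
    · exfalso; apply hz₀1; apply toEnd_injective ρ hρ; rw [map_one]; exact h
    · exact h
  have h2 : (2 : ZMod q) ≠ 0 := by
    intro h20
    apply hz₀1
    apply toEnd_injective ρ hρ
    rw [map_one]
    show φ z₀ = 1
    rw [hφz₀]
    have : (2 : ZMod q) • (1 : Module.End (ZMod q) V) = 0 := by rw [h20, zero_smul]
    rw [two_smul] at this
    exact neg_eq_of_add_eq_zero_left this
  have hq2 : q ≠ 2 := by
    intro hq2
    apply h2
    have : ((2 : ℕ) : ZMod q) = 0 := by rw [ZMod.natCast_eq_zero_iff, hq2]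
    exact_mod_cast this
  have hZ2 : ∀ z ∈ Z, LinearEquiv.det (ρ z) = 1 → z = 1 ∨ z = z₀ := by
    intro z hz hdet
    rcases hdetZ z hz hdet with h | h
    · left; apply toEnd_injective ρ hρ; rw [map_one]; exact h
    · right; apply toEnd_injective ρ hρ; show φ z = φ z₀; rw [hφz₀]; exact h
  have hanti : φ x₁ * φ x₂ = -(φ x₂ * φ x₁) := by
    have : x₁ * x₂ = z₀ * (x₂ * x₁) := by rw [hz₀]; group
    rw [← map_mul, this, map_mul, hφz₀, neg_one_mul, map_mul]
  have hcent : ∀ g : G, g * x₁ = x₁ * g → g * x₂ = x₂ * g → g ∈ Z := by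
    intro g h1 h2'
    exact anticomm_scalar hfr h2 (φ x₁) (φ x₂) (φ x₁⁻¹) (φ x₂⁻¹)
      (by rw [← map_mul, mul_inv_cancel, map_one]) (by rw [← map_mul, mul_inv_cancel, map_one])
      hanti (φ g) (by rw [← map_mul, ← map_mul, h1]) (by rw [← map_mul, ← map_mul, h2'])
  have hz₀c : ∀ g : G, z₀ * g = g * z₀ := hZc z₀ hz₀Z
  have hz₀sq : z₀ * z₀ = 1 := by
    apply toEnd_injective ρ hρ
    rw [map_mul, map_one]
    show φ z₀ * φ z₀ = 1
    rw [hφz₀, neg_mul_neg, one_mul]
  -- the commutator pairing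
  have hκ1 : ∀ u x : G, u * x * u⁻¹ * x⁻¹ = 1 → u * x = x * u := by
    intro u x h
    have : u * x = (u * x * u⁻¹ * x⁻¹) * (x * u) := by group
    rw [this, h, one_mul]
  have hκmul : ∀ u ∈ N, ∀ v ∈ N, ∀ x ∈ N, (u * v) * x * (u * v)⁻¹ * x⁻¹ =
      (u * x * u⁻¹ * x⁻¹) * (v * x * v⁻¹ * x⁻¹) := by
    intro u hu v hv x hx
    have h1 := hZc _ (hcommN v hv x hx) u
    have h2' : (u * v) * x * (u * v)⁻¹ * x⁻¹ =
        (u * (v * x * v⁻¹ * x⁻¹)) * (x * u⁻¹ * x⁻¹) := by group
    rw [h2', ← h1]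
    have h3 := hZc _ (hcommN v hv x hx) (u * x * u⁻¹ * x⁻¹)
    rw [← h3]; group
  have hcoset : ∀ u ∈ N, ∀ t ∈ N, u * x₁ * u⁻¹ * x₁⁻¹ = t * x₁ * t⁻¹ * x₁⁻¹ →
      u * x₂ * u⁻¹ * x₂⁻¹ = t * x₂ * t⁻¹ * x₂⁻¹ → u * t⁻¹ ∈ Z := by
    intro u hu t ht h1 h2'
    have key : ∀ x ∈ N, u * x * u⁻¹ * x⁻¹ = t * x * t⁻¹ * x⁻¹ →
        (u * t⁻¹) * x = x * (u * t⁻¹) := by
      intro x hx hux
      apply hκ1
      rw [hκmul u hu t⁻¹ (inv_mem ht) x hx, hux, ← hκmul t ht t⁻¹ (inv_mem ht) x hx]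
      group
    exact hcent _ (key x₁ hx₁ h1) (key x₂ hx₂ h2')
  have hx21 : x₂ * x₁ * x₂⁻¹ * x₁⁻¹ = z₀ := by
    have : x₂ * x₁ * x₂⁻¹ * x₁⁻¹ = (x₁ * x₂ * x₁⁻¹ * x₂⁻¹)⁻¹ := by group
    rw [this, ← hz₀]
    exact inv_eq_of_mul_eq_one_left hz₀sq
  have hNcos : ∀ u ∈ N, u * (1 : G)⁻¹ ∈ Z ∨ u * x₁⁻¹ ∈ Z ∨ u * x₂⁻¹ ∈ Z ∨ u * (x₂ * x₁)⁻¹ ∈ Z := by
    intro u hu
    have ha := hZ2 _ (hcommN u hu x₁ hx₁) (hdetcomm u x₁)
    have hb := hZ2 _ (hcommN u hu x₂ hx₂) (hdetcomm u x₂)
    rcases ha with ha | ha <;> rcases hb with hb | hb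
    · left
      apply hcoset u hu 1 (one_mem _)
      · rw [ha]; group
      · rw [hb]; group
    · right; left
      apply hcoset u hu x₁ hx₁
      · rw [ha]; group
      · rw [hb, hz₀]
    · right; right; left
      apply hcoset u hu x₂ hx₂
      · rw [ha, hx21]
      · rw [hb]; group
    · right; right; right
      apply hcoset u hu (x₂ * x₁) (mul_mem hx₂ hx₁)
      · rw [ha, hκmul x₂ hx₂ x₁ hx₁ x₁ hx₁, hx21]; group
      · rw [hb, hκmul x₂ hx₂ x₁ hx₁ x₂ hx₂, ← hz₀]; group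
  -- the quotient N / (Z ∩ N)
  let D' : Subgroup N := Z.subgroupOf N
  haveI : D'.Normal := Subgroup.normal_subgroupOf
  have hQcard : Nat.card (N ⧸ D') ≤ 4 := by
    let tt : Fin 4 → N := ![1, ⟨x₁, hx₁⟩, ⟨x₂, hx₂⟩, ⟨x₂ * x₁, mul_mem hx₂ hx₁⟩]
    have hsurj : Function.Surjective (fun i : Fin 4 => ((tt i : N) : N ⧸ D')) := by
      intro ub
      obtain ⟨u, rfl⟩ := QuotientGroup.mk_surjective ub
      have hmk : ∀ t : N, (u : G) * (t : G)⁻¹ ∈ Z → ((t : N) : N ⧸ D') = (u : N ⧸ D') := by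
        intro t ht
        rw [QuotientGroup.eq, Subgroup.mem_subgroupOf]
        have e : ((t⁻¹ * u : N) : G) = (t : G)⁻¹ * ((u : G) * (t : G)⁻¹) * ((t : G)⁻¹)⁻¹ := by
          rw [Subgroup.coe_mul, Subgroup.coe_inv]; group
        rw [e]
        exact hZn.conj_mem _ ht _
      rcases hNcos u u.2 with h | h | h | h
      · exact ⟨0, hmk 1 h⟩
      · exact ⟨1, hmk ⟨x₁, hx₁⟩ h⟩
      · exact ⟨2, hmk ⟨x₂, hx₂⟩ h⟩
      · exact ⟨3, hmk ⟨x₂ * x₁, mul_mem hx₂ hx₁⟩ h⟩
    have := Nat.card_le_card_of_surjective _ hsurj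
    rw [Nat.card_fin] at this
    exact this
  have hmap : ∀ h : G, D'.map ((MulAut.conjNormal h : N ≃* N) : N →* N) = D' := by
    intro h
    ext x
    rw [Subgroup.mem_map]
    constructor
    · rintro ⟨y, hy, rfl⟩
      rw [Subgroup.mem_subgroupOf] at hy ⊢
      show ((MulAut.conjNormal h y : N) : G) ∈ Z
      rw [MulAut.conjNormal_apply]
      exact hZn.conj_mem _ hy _
    · intro hx
      refine ⟨MulAut.conjNormal h⁻¹ x, ?_, ?_⟩
      · rw [Subgroup.mem_subgroupOf] at hx ⊢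
        rw [MulAut.conjNormal_apply]
        exact hZn.conj_mem _ hx _
      · apply Subtype.ext
        show ((MulAut.conjNormal h (MulAut.conjNormal h⁻¹ x) : N) : G) = x
        rw [MulAut.conjNormal_apply, MulAut.conjNormal_apply]; group
  let Ψ : G →* MulAut (N ⧸ D') :=
    { toFun := fun h => QuotientGroup.congr D' D' (MulAut.conjNormal h) (hmap h)
      map_one' := by
        ext xb
        obtain ⟨x, rfl⟩ := QuotientGroup.mk_surjective xb
        show QuotientGroup.congr D' D' (MulAut.conjNormal 1) (hmap 1) (x : N ⧸ D') = (x : N ⧸ D')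
        rw [QuotientGroup.congr_mk]
        congr 1
        apply Subtype.ext
        rw [MulAut.conjNormal_apply]; group
      map_mul' := fun a b => by
        ext xb
        obtain ⟨x, rfl⟩ := QuotientGroup.mk_surjective xb
        show QuotientGroup.congr D' D' (MulAut.conjNormal (a * b)) (hmap (a * b)) (x : N ⧸ D') =
          QuotientGroup.congr D' D' (MulAut.conjNormal a) (hmap a)
            (QuotientGroup.congr D' D' (MulAut.conjNormal b) (hmap b) (x : N ⧸ D'))
        rw [QuotientGroup.congr_mk, QuotientGroup.congr_mk, QuotientGroup.congr_mk]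
        congr 1
        apply Subtype.ext
        rw [MulAut.conjNormal_apply, MulAut.conjNormal_apply, MulAut.conjNormal_apply]; group }
  have hΨker : ∀ h : G, h ∈ Ψ.ker → ∀ x ∈ N, (h * x * h⁻¹)⁻¹ * x ∈ Z := by
    intro h hh x hx
    rw [MonoidHom.mem_ker] at hh
    have h1 : Ψ h ((⟨x, hx⟩ : N) : N ⧸ D') = ((⟨x, hx⟩ : N) : N ⧸ D') := by rw [hh]; rfl
    have h2 : QuotientGroup.congr D' D' (MulAut.conjNormal h) (hmap h) ((⟨x, hx⟩ : N) : N ⧸ D') =
        ((⟨x, hx⟩ : N) : N ⧸ D') := h1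
    rw [QuotientGroup.congr_mk, QuotientGroup.eq, Subgroup.mem_subgroupOf] at h2
    have e : (((MulAut.conjNormal h (⟨x, hx⟩ : N))⁻¹ * (⟨x, hx⟩ : N) : N) : G) =
        (h * x * h⁻¹)⁻¹ * x := by
      rw [Subgroup.coe_mul, Subgroup.coe_inv, MulAut.conjNormal_apply]
    rw [e] at h2
    exact h2
  have hTidx : Ψ.ker.index ∣ 6 := by
    rw [Subgroup.index_ker]
    exact (Subgroup.card_subgroup_dvd_card Ψ.range).trans (aut_card_dvd_six _ hQcard)
  have hZT : Z ≤ Ψ.ker := by
    intro z hz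
    rw [MonoidHom.mem_ker]
    ext xb
    obtain ⟨x, rfl⟩ := QuotientGroup.mk_surjective xb
    show QuotientGroup.congr D' D' (MulAut.conjNormal z) (hmap z) (x : N ⧸ D') = (x : N ⧸ D')
    rw [QuotientGroup.congr_mk]
    congr 1
    apply Subtype.ext
    rw [MulAut.conjNormal_apply, hZc z hz, mul_inv_cancel_right]
  -- signs
  have hsign : ∀ h ∈ Ψ.ker, ∀ x ∈ N, h * x = x * h ∨ h * x⁻¹ * h⁻¹ * x = z₀ := by
    intro h hh x hx
    have h1 := hΨker h hh x hx
    have e : (h * x * h⁻¹)⁻¹ * x = h * x⁻¹ * h⁻¹ * (x⁻¹)⁻¹ := by group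
    rw [e] at h1
    rcases hZ2 _ h1 (hdetcomm h x⁻¹) with h3 | h3
    · left
      have := hκ1 _ _ h3
      have c : Commute h x⁻¹ := this
      have c' := c.inv_right
      rw [inv_inv] at c'
      exact c'.eq
    · right
      rw [← h3]; group
  have hdiff : ∀ a ∈ Ψ.ker, ∀ b ∈ Ψ.ker, ∀ x ∈ N,
      (decide (a * x = x * a) = decide (b * x = x * b)) → (a⁻¹ * b) * x = x * (a⁻¹ * b) := by
    intro a ha b hb x hx hdec
    by_cases hax : a * x = x * a
    · have hbx : b * x = x * b := by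
        by_contra hbx
        simp [hax, hbx] at hdec
      have c1 : Commute a x := hax
      have c2 : Commute b x := hbx
      exact (c1.inv_left.mul_left c2).eq
    · have hbx : ¬ b * x = x * b := by
        intro hbx
        simp [hax, hbx] at hdec
      have h1 := (hsign a ha x hx).resolve_left hax
      have h2' := (hsign b hb x hx).resolve_left hbx
      have h3 : a * x⁻¹ * a⁻¹ = b * x⁻¹ * b⁻¹ := by
        have e1 : a * x⁻¹ * a⁻¹ = (a * x⁻¹ * a⁻¹ * x) * x⁻¹ := by group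
        have e2 : b * x⁻¹ * b⁻¹ = (b * x⁻¹ * b⁻¹ * x) * x⁻¹ := by group
        rw [e1, e2, h1, h2']
      have c : Commute (a⁻¹ * b) x⁻¹ := by
        show (a⁻¹ * b) * x⁻¹ = x⁻¹ * (a⁻¹ * b)
        have e1 : (a⁻¹ * b) * x⁻¹ = a⁻¹ * (b * x⁻¹ * b⁻¹) * b := by group
        rw [e1, ← h3]; group
      have c' := c.inv_right
      rw [inv_inv] at c'
      exact c'.eq
  let T₁ : Subgroup G := Ψ.ker ⊓ Subgroup.centralizer {x₁}
  have hT₁mem : ∀ g, g ∈ T₁ ↔ (g ∈ Ψ.ker ∧ g * x₁ = x₁ * g) := by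
    intro g
    show (g ∈ Ψ.ker ∧ g ∈ Subgroup.centralizer {x₁}) ↔ _
    rw [Subgroup.mem_centralizer_iff]
    constructor
    · rintro ⟨h1, h2'⟩; exact ⟨h1, (h2' x₁ rfl).symm⟩
    · rintro ⟨h1, h2'⟩
      refine ⟨h1, ?_⟩
      intro y hy
      rw [Set.mem_singleton_iff] at hy
      rw [hy]; exact h2'.symm
  have hr1 : T₁.relIndex Ψ.ker ≤ 2 := by
    have := relIndex_le_of_inj T₁ Ψ.ker (fun g : G => decide (g * x₁ = x₁ * g)) (by
      intro a ha b hb hab
      rw [hT₁mem]
      exact ⟨mul_mem (inv_mem ha) hb, hdiff a ha b hb x₁ hx₁ hab⟩)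
    rw [Nat.card_eq_fintype_card, Fintype.card_bool] at this
    exact this
  have hr2 : Z.relIndex T₁ ≤ 2 := by
    have := relIndex_le_of_inj Z T₁ (fun g : G => decide (g * x₂ = x₂ * g)) (by
      intro a ha b hb hab
      rw [hT₁mem] at ha hb
      apply hcent
      · have c1 : Commute a x₁ := ha.2
        have c2 : Commute b x₁ := hb.2
        exact (c1.inv_left.mul_left c2).eq
      · exact hdiff a ha.1 b hb.1 x₂ hx₂ hab)
    rw [Nat.card_eq_fintype_card, Fintype.card_bool] at this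
    exact this
  have hZT₁ : Z ≤ T₁ := by
    intro z hz
    rw [hT₁mem]
    exact ⟨hZT hz, hZc z hz x₁⟩
  have hT₁T : T₁ ≤ Ψ.ker := inf_le_left
  have hcardG : Nat.card G = Nat.card Z * (Z.relIndex T₁ * T₁.relIndex Ψ.ker * Ψ.ker.index) := by
    rw [Subgroup.relIndex_mul_relIndex Z T₁ Ψ.ker hZT₁ hT₁T, Subgroup.relIndex_mul_index hZT,
      Subgroup.card_mul_index]
  have hpos : Nat.card G ≠ 0 := Nat.card_pos.ne'
  have hr1' : T₁.relIndex Ψ.ker = 1 ∨ T₁.relIndex Ψ.ker = 2 := by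
    have : T₁.relIndex Ψ.ker ≠ 0 := by
      intro h0
      rw [h0] at hcardG
      simp at hcardG
      exact hpos hcardG
    omega
  have hr2' : Z.relIndex T₁ = 1 ∨ Z.relIndex T₁ = 2 := by
    have : Z.relIndex T₁ ≠ 0 := by
      intro h0
      rw [h0] at hcardG
      simp at hcardG
      exact hpos hcardG
    omega
  have hdvdG := card_dvd ρ htrans
  rw [hV, hcardG] at hdvdG
  exact arith24 q _ _ _ _ hq hq2 hZcard hr2' hr1' hTidx hdvdG

end

end Cfsg.Agent.Lib.Helper63.Hup2
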