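import Mathlib
import Cfsg.Agent.Lib.Helper63.SemiLin
import Cfsg.Agent.Lib.Helper63.Hup1
import Cfsg.Agent.Lib.Helper63.Hup4

/-!
# Huppert's theorem for `GL(6,2)` (helper63)
-/

set_option autoImplicit false

namespace Cfsg.Agent.Lib.Helper63.Hup5

open Cfsg.Agent.Lib.Helper63.SemiLin Cfsg.Agent.Lib.Helper63.Hup1 Cfsg.Agent.Lib.Helper63.Hup4

theorem arith7 (c n : ℕ) (hn : n ∣ 81) (hc : c ∣ n) (h : n ≡ c [MOD 7]) : c = n := by
  have h81 : (81 : ℕ) = 3 ^ 4 := by norm_num
  rw [h81] at hn
  obtain ⟨k, hk, rfl⟩ := (Nat.dvd_prime_pow Nat.prime_three).mp hn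
  obtain ⟨j, hj, rfl⟩ := (Nat.dvd_prime_pow Nat.prime_three).mp hc
  unfold Nat.ModEq at h
  interval_cases k <;> interval_cases j <;> simp_all

theorem arithA (a b : ℕ) (ha : a ∣ 63) (hb : 2 ≤ b) (hb64 : b < 64) (hb2 : ∃ d, b = 2 ^ d)
    (hab : a ∣ b - 1) : a = 1 ∨ a = 3 ∨ a = 7 := by
  obtain ⟨d, rfl⟩ := hb2
  have hd : d < 6 := by
    by_contra hd
    push Not at hd
    have : 2 ^ 6 ≤ 2 ^ d := Nat.pow_le_pow_right (by norm_num) hd
    omega
  have ha63 : a ≤ 63 := Nat.le_of_dvd (by norm_num) ha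
  interval_cases d <;> simp at hb hab <;> interval_cases a <;> simp_all

/-- an element of order seven centralises a normal subgroup whose order divides 81 -/
theorem centralizes_of_count {G : Type*} [Group G] [Finite G] (g : G) (N : Subgroup G)
    [hN : N.Normal] (hg : g ^ 7 = 1) (hcard : Nat.card N ∣ 81) : ∀ y ∈ N, y * g = g * y := by
  classical
  haveI : Fact (Nat.Prime 7) := ⟨by norm_num⟩
  haveI : Fintype N := Fintype.ofFinite N
  let σ : Function.End N := fun y => ⟨g * y * g⁻¹, hN.conj_mem _ y.2 g⟩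
  have hσk : ∀ (k : ℕ) (y : N), (((σ ^ k) y : N) : G) = g ^ k * y * (g ^ k)⁻¹ := by
    intro k
    induction k with
    | zero => intro y; rw [pow_zero, pow_zero, one_mul, inv_one, mul_one]; rfl
    | succ k ih =>
      intro y
      rw [pow_succ]
      show (((σ ^ k) (σ y) : N) : G) = _
      rw [ih]
      show g ^ k * (g * y * g⁻¹) * (g ^ k)⁻¹ = _
      rw [pow_succ]; group
  have hσ : σ ^ 7 ^ 1 = 1 := by
    rw [pow_one]
    funext y
    apply Subtype.ext
    rw [hσk, hg, one_mul, inv_one, mul_one]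
    rfl
  have h1 := Equiv.Perm.card_fixedPoints_modEq (p := 7) (n := 1) hσ
  let C : Subgroup N := (Subgroup.centralizer {g}).subgroupOf N
  have hCmem : ∀ y : N, y ∈ C ↔ (y : G) * g = g * y := by
    intro y
    rw [Subgroup.mem_subgroupOf, Subgroup.mem_centralizer_iff]
    constructor
    · intro h; exact (h g rfl).symm
    · intro h z hz
      rw [Set.mem_singleton_iff] at hz
      rw [hz]; exact h.symm
  have e : Fintype.card (Function.fixedPoints σ) = Nat.card C := by
    rw [← Nat.card_eq_fintype_card]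
    apply Nat.card_congr
    refine
      { toFun := fun w => ⟨w.1, ?_⟩
        invFun := fun u => ⟨u.1, ?_⟩
        left_inv := fun w => rfl
        right_inv := fun u => rfl }
    · have h2 : σ w.1 = w.1 := w.2
      have h3 : g * (w.1 : G) * g⁻¹ = w.1 := congrArg Subtype.val h2
      rw [hCmem]
      have : g * (w.1 : G) = (g * (w.1 : G) * g⁻¹) * g := by group
      rw [this, h3]
    · have h2 := (hCmem u.1).mp u.2
      show σ u.1 = u.1
      apply Subtype.ext
      show g * (u.1 : G) * g⁻¹ = u.1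
      rw [← h2]; group
  rw [e, ← Nat.card_eq_fintype_card] at h1
  have h2 := arith7 _ _ hcard (Subgroup.card_subgroup_dvd_card C) h1
  have hCtop : C = ⊤ := Subgroup.eq_top_of_card_eq C h2
  intro y hy
  have : (⟨y, hy⟩ : N) ∈ C := by rw [hCtop]; exact Subgroup.mem_top _
  exact (hCmem _).mp this

section
variable {q : ℕ} [Fact q.Prime] {V : Type*} [AddCommGroup V] [Module (ZMod q) V]
  {G : Type*} [Group G]

theorem card_GL26 [Finite V] (hq : q = 2) (hV : Nat.card V = q ^ 6) :
    Nat.card (V ≃ₗ[ZMod q] V) = 20158709760 := by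
  classical
  subst hq
  have hfr : Module.finrank (ZMod 2) V = 6 := by
    have := Module.natCard_eq_pow_finrank (K := ZMod 2) (V := V)
    rw [hV, Nat.card_zmod] at this
    exact (Nat.pow_right_injective (le_refl 2) this).symm
  let b := Module.finBasisOfFinrankEq (ZMod 2) V hfr
  have e1 : (V ≃ₗ[ZMod 2] V) ≃ (Module.End (ZMod 2) V)ˣ :=
    (LinearMap.GeneralLinearGroup.generalLinearEquiv (ZMod 2) V).symm.toEquiv
  have e2 : (Module.End (ZMod 2) V)ˣ ≃ GL (Fin 6) (ZMod 2) :=
    (Units.mapEquiv (LinearMap.toMatrixAlgEquiv b).toMulEquiv).toEquiv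
  rw [Nat.card_congr (e1.trans e2), Matrix.card_GL_field, ZMod.card, Fin.prod_univ_six]
  norm_num

/-- Huppert's theorem for `GL(6,2)` -/
theorem case26 [Finite V] [Nontrivial V] [Finite G] (hsol : Group.IsSolvable G)
    (ρ : G →* (V ≃ₗ[ZMod q] V)) (hρ : Function.Injective ρ)
    (htrans : ∀ v w : V, v ≠ 0 → w ≠ 0 → ∃ g : G, ρ g v = w) (hq : q = 2)
    (hV : Nat.card V = q ^ 6) :
    ∃ (F : Type) (_ : Field F) (_ : Fintype F) (e : V ≃+ F),
        ∀ g : G, ∃ (a : F) (σ : F ≃+* F), ∀ v : V, e (ρ g v) = a * σ (e v) := by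
  classical
  by_contra hNS
  haveI : Finite (Module.End (ZMod q) V) := DFunLike.finite (V →ₗ[ZMod q] V)
  obtain ⟨v₀, hv₀⟩ := exists_ne (0 : V)
  let φ := toEnd (q := q) ρ
  have hV64 : Nat.card V = 64 := by rw [hV, hq]; norm_num
  have hG63 : 63 ∣ Nat.card G := by
    have := card_dvd ρ htrans
    rw [hV64] at this
    exact this
  have hGL : Nat.card G ∣ 20158709760 := by
    rw [← card_GL26 hq hV]
    exact Subgroup.card_dvd_of_injective ρ hρ
  -- Step A
  have hAb : ∀ A : Subgroup G, A.Normal → (∀ a ∈ A, ∀ b ∈ A, a * b = b * a) →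
      Nat.card A = 1 ∨ Nat.card A = 3 ∨ Nat.card A = 7 := by
    intro A hAn hAab
    haveI := hAn
    have hinj := BA_inj ρ htrans A hAab
    have hφ1 : ∀ a ∈ A, (∃ v : V, v ≠ 0 ∧ (φ a - 1) v = 0) → a = 1 := by
      rintro a ha ⟨v, hv, hav⟩
      by_contra ha1
      have hne : (φ a - 1 : Module.End (ZMod q) V) ≠ 0 := by
        intro h0
        apply ha1
        apply toEnd_injective ρ hρ
        rw [map_one]
        exact sub_eq_zero.mp h0
      have := hinj _ (sub_mem (mem_BA ρ A ha) (one_mem _)) hne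
      apply hv
      apply this
      rw [hav, map_zero]
    -- A acts freely on the nonzero vectors
    have h63 : Nat.card A ∣ 63 := by
      letI : MulAction A {v : V // v ≠ 0} :=
        { smul := fun a v => ⟨ρ a v.1, fun h0 => v.2 (by
            have := congrArg (ρ (a : G)).symm h0
            rw [LinearEquiv.symm_apply_apply, map_zero] at this; exact this)⟩
          one_smul := fun v => Subtype.ext (by
            show ρ ((1 : A) : G) v.1 = v.1
            rw [Subgroup.coe_one, map_one]; rfl)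
          mul_smul := fun a b v => Subtype.ext (by
            show ρ ((a * b : A) : G) v.1 = ρ a (ρ b v.1)
            rw [Subgroup.coe_mul, map_mul]; rfl) }
      have hfree : ∀ (a : A) (v : {v : V // v ≠ 0}), a • v = v → a = 1 := by
        intro a v hav
        have h1 : ρ (a : G) v.1 = v.1 := congrArg Subtype.val hav
        apply Subtype.ext
        apply hφ1 a a.2
        refine ⟨v.1, v.2, ?_⟩
        rw [LinearMap.sub_apply, sub_eq_zero]
        exact h1
      have := card_dvd_of_free hfree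
      rw [card_ne_zero, hV64] at this
      exact this
    -- A acts freely on the nonzero elements of the algebra
    have hB : Nat.card A ∣ Nat.card (BA ρ A) - 1 := by
      letI : MulAction A {b : BA ρ A // b ≠ 0} :=
        { smul := fun a b => ⟨⟨φ a * b.1.1, mul_mem (mem_BA ρ A a.2) b.1.2⟩, fun h0 => b.2 (by
            have h1 : φ (a : G) * (b.1 : Module.End (ZMod q) V) = 0 := congrArg Subtype.val h0
            apply Subtype.ext
            have h2 : φ (a : G)⁻¹ * (φ (a : G) * (b.1 : Module.End (ZMod q) V)) = 0 := by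
              rw [h1, mul_zero]
            rw [← mul_assoc, ← map_mul, inv_mul_cancel, map_one, one_mul] at h2
            exact h2)⟩
          one_smul := fun b => Subtype.ext (Subtype.ext (by
            show φ ((1 : A) : G) * (b.1 : Module.End (ZMod q) V) = b.1
            rw [Subgroup.coe_one, map_one, one_mul]))
          mul_smul := fun a c b => Subtype.ext (Subtype.ext (by
            show φ ((a * c : A) : G) * (b.1 : Module.End (ZMod q) V) = φ a * (φ c * b.1)
            rw [Subgroup.coe_mul, map_mul, mul_assoc])) }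
      have hfree : ∀ (a : A) (b : {b : BA ρ A // b ≠ 0}), a • b = b → a = 1 := by
        intro a b hab
        have h1 : φ (a : G) * (b.1 : Module.End (ZMod q) V) = b.1 :=
          congrArg (fun x : {b : BA ρ A // b ≠ 0} => ((x.1 : BA ρ A) : Module.End (ZMod q) V)) hab
        apply Subtype.ext
        apply hφ1 a a.2
        have hb0 : (b.1 : Module.End (ZMod q) V) ≠ 0 := fun h0 => b.2 (Subtype.ext h0)
        obtain ⟨v, hv⟩ : ∃ v, (b.1 : Module.End (ZMod q) V) v ≠ 0 := by
          by_contra hall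
          push Not at hall
          exact hb0 (LinearMap.ext hall)
        refine ⟨_, hv, ?_⟩
        rw [LinearMap.sub_apply, sub_eq_zero]
        have := congrArg (fun f : Module.End (ZMod q) V => f v) h1
        exact this
      have := card_dvd_of_free hfree
      have hc : Nat.card {b : BA ρ A // b ≠ 0} = Nat.card (BA ρ A) - 1 := by
        haveI := Fintype.ofFinite (BA ρ A)
        rw [Nat.card_eq_fintype_card, Nat.card_eq_fintype_card,
          Fintype.card_subtype_compl (fun v : BA ρ A => v = 0)]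
        simp
      rw [hc] at this
      exact this
    have hBle : Nat.card (BA ρ A) ≤ 64 := by
      rw [← hV64]
      exact Nat.card_le_card_of_injective _ (BA_card_le ρ htrans A hAab v₀ hv₀)
    have hBlt : Nat.card (BA ρ A) < 64 := by
      rcases Nat.lt_or_ge (Nat.card (BA ρ A)) 64 with h | h
      · exact h
      · exfalso
        apply hNS
        exact sl_of_abelian ρ htrans A hAab (by rw [hV64]; exact h)
    have hB2 : ∃ d, Nat.card (BA ρ A) = 2 ^ d := by
      refine ⟨Module.finrank (ZMod q) (BA ρ A), ?_⟩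
      rw [Module.natCard_eq_pow_finrank (K := ZMod q) (V := BA ρ A), Nat.card_zmod]
      exact congrArg (fun x => x ^ Module.finrank (ZMod q) (BA ρ A)) hq
    have hBge : 2 ≤ Nat.card (BA ρ A) := by
      have : Nontrivial (BA ρ A) := by
        refine ⟨⟨0, 1, ?_⟩⟩
        intro h
        apply hv₀
        have h1 : (0 : Module.End (ZMod q) V) = 1 := congrArg Subtype.val h
        have h2 := congrArg (fun f : Module.End (ZMod q) V => f v₀) h1
        exact h2.symm
      exact Finite.one_lt_card_iff_nontrivial.mpr this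
    exact arithA _ _ h63 hBge hBlt hB2 hB
  -- the centre of a normal p-subgroup
  have hcen : ∀ (p : ℕ) [Fact p.Prime] (N : Subgroup G), N.Normal → IsPGroup p N → N ≠ ⊥ →
      ∃ A : Subgroup G, A.Normal ∧ (∀ a ∈ A, ∀ b ∈ A, a * b = b * a) ∧ p ∣ Nat.card A ∧
        IsPGroup p A := by
    intro p _ N hN hNp hNbot
    haveI := hN
    haveI : Nontrivial N := (Subgroup.nontrivial_iff_ne_bot N).mpr hNbot
    haveI : Nontrivial (Subgroup.center N) := hNp.center_nontrivial
    let Z : Subgroup G := (Subgroup.center N).map N.subtype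
    have hZn : Z.Normal := ConjAct.normal_of_characteristic_of_normal
    have hZab : ∀ a ∈ Z, ∀ b ∈ Z, a * b = b * a := by
      rintro _ ⟨a, ha, rfl⟩ _ ⟨b, hb, rfl⟩
      have ha' : a ∈ Subgroup.center N := ha
      rw [Subgroup.mem_center_iff] at ha'
      have := ha' b
      exact congrArg Subtype.val this.symm
    have hcardZ : Nat.card Z = Nat.card (Subgroup.center N) :=
      Nat.card_congr ((Subgroup.center N).equivMapOfInjective N.subtype
        N.subtype_injective).symm.toEquiv
    have hZp : IsPGroup p (Subgroup.center N) := hNp.to_subgroup _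
    obtain ⟨m, hm⟩ := IsPGroup.iff_card.mp hZp
    have hm0 : m ≠ 0 := by
      rintro rfl
      rw [pow_zero] at hm
      have := Finite.one_lt_card_iff_nontrivial.mpr
        (inferInstance : Nontrivial (Subgroup.center N))
      omega
    refine ⟨Z, hZn, hZab, ?_, ?_⟩
    · rw [hcardZ, hm]; exact dvd_pow_self p hm0
    · exact IsPGroup.of_card (n := m) (by rw [hcardZ, hm])
  -- Step B
  have hB37 : ∀ (p : ℕ) [Fact p.Prime] (N : Subgroup G), N.Normal → IsPGroup p N → N ≠ ⊥ →
      p = 3 ∨ p = 7 := by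
    intro p hp N hN hNp hNbot
    obtain ⟨A, hAn, hAab, hpA, -⟩ := hcen p N hN hNp hNbot
    have hpp : p.Prime := hp.out
    rcases hAb A hAn hAab with h | h | h
    · rw [h] at hpA
      exact absurd (Nat.dvd_one.mp hpA) hpp.one_lt.ne'
    · left
      rw [h] at hpA
      exact (Nat.prime_dvd_prime_iff_eq hpp Nat.prime_three).mp hpA
    · right
      rw [h] at hpA
      exact (Nat.prime_dvd_prime_iff_eq hpp (by norm_num)).mp hpA
  haveI : Fact (Nat.Prime 7) := ⟨by norm_num⟩
  haveI : Fact (Nat.Prime 3) := ⟨Nat.prime_three⟩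
  have h3sub : ∀ N : Subgroup G, IsPGroup 3 N → Nat.card N ∣ 81 := by
    intro N hN
    obtain ⟨k, hk⟩ := IsPGroup.iff_card.mp hN
    have h1 : Nat.card N ∣ 20158709760 := (Subgroup.card_subgroup_dvd_card N).trans hGL
    have h2 : (20158709760 : ℕ) = 81 * 248872960 := by norm_num
    rw [h2, hk] at h1
    rw [hk]
    exact (Nat.Coprime.pow_left k (by norm_num : Nat.Coprime 3 248872960)).dvd_of_dvd_mul_right h1
  have h7sub : ∀ N : Subgroup G, IsPGroup 7 N → Nat.card N ∣ 49 := by
    intro N hN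
    obtain ⟨k, hk⟩ := IsPGroup.iff_card.mp hN
    have h1 : Nat.card N ∣ 20158709760 := (Subgroup.card_subgroup_dvd_card N).trans hGL
    have h2 : (20158709760 : ℕ) = 49 * 411402240 := by norm_num
    rw [h2, hk] at h1
    rw [hk]
    exact (Nat.Coprime.pow_left k (by norm_num : Nat.Coprime 7 411402240)).dvd_of_dvd_mul_right h1
  -- Step C
  have hC : ∃ N : Subgroup G, N.Normal ∧ IsPGroup 7 N ∧ N ≠ ⊥ := by
    by_contra hcon
    push Not at hcon
    obtain ⟨g, hg⟩ := exists_prime_orderOf_dvd_card' (G := G) 7 (dvd_trans (by norm_num) hG63)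
    have hg7 : g ^ 7 = 1 := hg ▸ pow_orderOf_eq_one g
    obtain ⟨N, hN, hN7, hgN⟩ := mem_normal_pgroup hsol 7 g 1 (by rw [hg, pow_one]) (by
      intro r hr N hN hNr y hy
      by_cases hNbot : N = ⊥
      · rw [hNbot, Subgroup.mem_bot] at hy
        rw [hy, one_mul, mul_one]
      rcases hB37 r N hN hNr hNbot with h3 | h7
      · subst h3
        haveI := hN
        exact centralizes_of_count g N hg7 (h3sub N hNr) y hy
      · subst h7
        exact absurd (hcon N hN hNr) hNbot)
    have := hcon N hN hN7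
    rw [this, Subgroup.mem_bot] at hgN
    rw [hgN, orderOf_one] at hg
    norm_num at hg
  -- maximal normal 7-subgroup
  obtain ⟨N₇, ⟨hN₇n, hN₇p⟩, hN₇max⟩ := Set.exists_max_image
    {N : Subgroup G | N.Normal ∧ IsPGroup 7 N} (fun N => Nat.card N) (Set.toFinite _)
    (by obtain ⟨N, hN, hN7, -⟩ := hC; exact ⟨N, hN, hN7⟩)
  haveI := hN₇n
  have hN₇le : ∀ N : Subgroup G, N.Normal → IsPGroup 7 N → N ≤ N₇ := by
    intro N hN hN7
    haveI := hN
    have h1 : IsPGroup 7 (N ⊔ N₇ : Subgroup G) := hN7.to_sup_of_normal_right hN₇p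
    have h2 := hN₇max (N ⊔ N₇) ⟨Subgroup.sup_normal N N₇, h1⟩
    have h3 : N₇ = N ⊔ N₇ := Subgroup.eq_of_le_of_card_ge le_sup_right h2
    rw [h3]; exact le_sup_left
  have hN₇bot : N₇ ≠ ⊥ := by
    obtain ⟨N, hN, hN7, hNbot⟩ := hC
    intro h
    apply hNbot
    have := hN₇le N hN hN7
    rw [h] at this
    exact le_bot_iff.mp this
  have hN₇card : Nat.card N₇ = 7 := by
    have h49 := h7sub N₇ hN₇p
    have h49' : (49 : ℕ) = 7 ^ 2 := by norm_num
    rw [h49'] at h49
    obtain ⟨k, hk, hk'⟩ := (Nat.dvd_prime_pow (by norm_num : Nat.Prime 7)).mp h49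
    have hab : ∀ a ∈ N₇, ∀ b ∈ N₇, a * b = b * a := by
      interval_cases k
      · exfalso
        apply hN₇bot
        rw [pow_zero] at hk'
        exact (Subgroup.card_eq_one).mp hk'
      · rw [pow_one] at hk'
        haveI := isCyclic_of_prime_card hk'
        intro a ha b hb
        have := (IsCyclic.commGroup (α := N₇)).mul_comm ⟨a, ha⟩ ⟨b, hb⟩
        exact congrArg Subtype.val this
      · intro a ha b hb
        have := (IsPGroup.isMulCommutative_of_card_eq_prime_sq hk').is_comm.comm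
          (⟨a, ha⟩ : N₇) ⟨b, hb⟩
        exact congrArg Subtype.val this
    rcases hAb N₇ hN₇n hab with h | h | h
    · exfalso; exact hN₇bot ((Subgroup.card_eq_one).mp h)
    · exfalso
      rw [hk'] at h
      interval_cases k <;> omega
    · exact h
  -- Step D
  have hD : ∀ N : Subgroup G, N.Normal → IsPGroup 3 N → N = ⊥ := by
    intro N hN hN3
    by_contra hNbot
    obtain ⟨A₃, hA₃n, hA₃ab, h3A, hA₃p⟩ := hcen 3 N hN hN3 hNbot
    obtain ⟨A₇, hA₇n, hA₇ab, h7A, hA₇p⟩ := hcen 7 N₇ hN₇n hN₇p hN₇bot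
    haveI := hA₃n
    haveI := hA₇n
    have hdisj : Disjoint A₃ A₇ := by
      apply Subgroup.disjoint_of_coprime_natCard
      obtain ⟨k3, hk3⟩ := IsPGroup.iff_card.mp hA₃p
      obtain ⟨k7, hk7⟩ := IsPGroup.iff_card.mp hA₇p
      rw [hk3, hk7]
      exact Nat.Coprime.pow _ _ (by norm_num)
    have hcomm := Subgroup.commute_of_normal_of_disjoint A₃ A₇ hA₃n hA₇n hdisj
    have hab : ∀ a ∈ A₃ ⊔ A₇, ∀ b ∈ A₃ ⊔ A₇, a * b = b * a := by
      intro a ha b hb
      rw [Subgroup.mem_sup_of_normal_right] at ha hb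
      obtain ⟨a3, ha3, a7, ha7, rfl⟩ := ha
      obtain ⟨b3, hb3, b7, hb7, rfl⟩ := hb
      have c1 : Commute a3 b3 := hA₃ab a3 ha3 b3 hb3
      have c2 : Commute a3 b7 := hcomm a3 b7 ha3 hb7
      have c3 : Commute a7 b3 := (hcomm b3 a7 hb3 ha7).symm
      have c4 : Commute a7 b7 := hA₇ab a7 ha7 b7 hb7
      exact ((c1.mul_right c2).mul_left (c3.mul_right c4)).eq
    have h3 : 3 ∣ Nat.card (A₃ ⊔ A₇ : Subgroup G) :=
      h3A.trans (Subgroup.card_dvd_of_le le_sup_left)
    have h7 : 7 ∣ Nat.card (A₃ ⊔ A₇ : Subgroup G) :=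
      h7A.trans (Subgroup.card_dvd_of_le le_sup_right)
    rcases hAb (A₃ ⊔ A₇) (Subgroup.sup_normal A₃ A₇) hab with h | h | h
    · rw [h] at h3; norm_num at h3
    · rw [h] at h7; norm_num at h7
    · rw [h] at h3; norm_num at h3
  -- Step E
  let Φ : G →* MulAut N₇ := MulAut.conjNormal
  have hΦidx : Φ.ker.index ∣ 6 := by
    rw [Subgroup.index_ker]
    haveI : Fact (Nat.Prime 7) := ⟨by norm_num⟩
    haveI := isCyclic_of_prime_card hN₇card
    have h1 := IsCyclic.card_mulAut N₇
    rw [hN₇card] at h1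
    have h2 : Nat.totient 7 = 6 := by rw [Nat.totient_prime (by norm_num)]
    rw [h2] at h1
    rw [← h1]
    exact Subgroup.card_subgroup_dvd_card Φ.range
  have h3ker : 3 ∣ Nat.card Φ.ker := by
    have h1 := Subgroup.card_mul_index Φ.ker
    have h9 : 9 ∣ Nat.card Φ.ker * Φ.ker.index := by rw [h1]; exact dvd_trans (by norm_num) hG63
    by_contra h3
    have hcop : Nat.Coprime 9 (Nat.card Φ.ker) := by
      have : (9 : ℕ) = 3 ^ 2 := by norm_num
      rw [this]
      exact Nat.Coprime.pow_left 2 ((Nat.Prime.coprime_iff_not_dvd Nat.prime_three).mpr h3)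
    have h96 : 9 ∣ 6 := (hcop.dvd_of_dvd_mul_left h9).trans hΦidx
    norm_num at h96
  obtain ⟨x, hx⟩ := exists_prime_orderOf_dvd_card' (G := Φ.ker) 3 h3ker
  have hxG : orderOf (x : G) = 3 := by rw [Subgroup.orderOf_coe]; exact hx
  have hxc : ∀ n ∈ N₇, n * (x : G) = x * n := by
    intro n hn
    have h1 : Φ (x : G) = 1 := x.2
    have h2 := congrArg (fun f : MulAut N₇ => ((f ⟨n, hn⟩ : N₇) : G)) h1
    simp only [Φ, MulAut.conjNormal_apply, MulAut.one_apply] at h2
    have : (x : G) * n = ((x : G) * n * (x : G)⁻¹) * x := by group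
    rw [this, h2]
  obtain ⟨N, hN, hN3, hxN⟩ := mem_normal_pgroup hsol 3 (x : G) 1 (by rw [hxG, pow_one]) (by
    intro r hr N hN hNr y hy
    by_cases hNbot : N = ⊥
    · rw [hNbot, Subgroup.mem_bot] at hy
      rw [hy, one_mul, mul_one]
    rcases hB37 r N hN hNr hNbot with h3 | h7
    · subst h3
      exact absurd (hD N hN hNr) hNbot
    · subst h7
      exact hxc y (hN₇le N hN hNr hy))
  have := hD N hN hN3
  rw [this, Subgroup.mem_bot] at hxN
  rw [hxN, orderOf_one] at hxG
  norm_num at hxG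

end

end Cfsg.Agent.Lib.Helper63.Hup5
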