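import Mathlib

/-!
# Arithmetic for Huppert's theorem (helper63)
-/

set_option autoImplicit false

namespace Cfsg.Agent.Lib.Helper63.Hup6

/-- a primitive prime divisor of `q ^ n - 1` is bigger than `n` -/
theorem ppd_gt (q n ℓ : ℕ) (hn : 1 ≤ n) (hℓ : ℓ.Prime) (hdvd : ℓ ∣ q ^ n - 1) (hq : 1 ≤ q)
    (hppd : ∀ i, 1 ≤ i → i < n → ¬ ℓ ∣ q ^ i - 1) : n < ℓ := by
  haveI : Fact ℓ.Prime := ⟨hℓ⟩
  have hpow : ∀ i : ℕ, ((q : ZMod ℓ)) ^ i = 1 ↔ ℓ ∣ q ^ i - 1 := by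
    intro i
    have h1 : 1 ≤ q ^ i := Nat.one_le_pow _ _ hq
    rw [← ZMod.natCast_eq_zero_iff, Nat.cast_sub h1, Nat.cast_pow, Nat.cast_one, sub_eq_zero]
  have hu : (q : ZMod ℓ) ^ n = 1 := (hpow n).mpr hdvd
  have hu0 : (q : ZMod ℓ) ≠ 0 := by
    intro h0
    rw [h0, zero_pow (by omega)] at hu
    exact zero_ne_one hu
  have hord : orderOf (q : ZMod ℓ) = n := by
    have h1 : orderOf (q : ZMod ℓ) ∣ n := orderOf_dvd_of_pow_eq_one hu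
    have h2 : 0 < orderOf (q : ZMod ℓ) := Nat.pos_of_dvd_of_pos h1 (by omega)
    have h3 : orderOf (q : ZMod ℓ) ≤ n := Nat.le_of_dvd (by omega) h1
    by_contra hne
    exact hppd _ h2 (by omega) ((hpow _).mp (pow_orderOf_eq_one _))
  have h4 : (q : ZMod ℓ) ^ (ℓ - 1) = 1 := ZMod.pow_card_sub_one_eq_one hu0
  have h5 : n ∣ ℓ - 1 := hord ▸ orderOf_dvd_of_pow_eq_one h4
  have h6 : n ≤ ℓ - 1 := Nat.le_of_dvd (by have := hℓ.two_le; omega) h5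
  have := hℓ.two_le
  omega

theorem pow_ge_two (r k : ℕ) (hr : r.Prime) (hk : 1 ≤ k) : 2 ≤ r ^ k :=
  le_trans hr.two_le (Nat.le_self_pow (by omega) r)

theorem sq_sub_one (m : ℕ) (hm : 1 ≤ m) : m * m - 1 = (m - 1) * (m + 1) := by
  have h1 : 1 ≤ m * m := Nat.one_le_iff_ne_zero.mpr (by positivity)
  zify [h1, hm]
  ring

theorem num1 (ℓ n : ℕ) (hℓ : ℓ.Prime) (h : n + 1 < ℓ) :
    ∀ r k : ℕ, r.Prime → 1 ≤ k → r ^ k ≤ n → ¬ ℓ ^ 1 ∣ r ^ k * r ^ k - 1 := by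
  intro r k hr hk hle hd
  have hm2 := pow_ge_two r k hr hk
  obtain ⟨m, hm⟩ : ∃ m, m = r ^ k := ⟨_, rfl⟩
  rw [← hm] at hle hd hm2
  rw [pow_one, sq_sub_one m (by omega)] at hd
  rcases (Nat.Prime.dvd_mul hℓ).mp hd with h1 | h1
  · have := Nat.le_of_dvd (by omega) h1
    omega
  · have := Nat.le_of_dvd (by omega) h1
    omega

theorem num2 (ℓ n : ℕ) (hℓ : ℓ.Prime) (hodd : ℓ ≠ 2) (h : n < ℓ) :
    ∀ r k : ℕ, r.Prime → 1 ≤ k → r ^ k ≤ n → ¬ ℓ ^ 2 ∣ r ^ k * r ^ k - 1 := by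
  intro r k hr hk hle hd
  have hm2 := pow_ge_two r k hr hk
  obtain ⟨m, hm⟩ : ∃ m, m = r ^ k := ⟨_, rfl⟩
  rw [← hm] at hle hd hm2
  rw [sq_sub_one m (by omega)] at hd
  have hℓ2 := hℓ.two_le
  have hsq : ℓ < ℓ ^ 2 := by nlinarith
  by_cases h1 : ℓ ∣ m - 1
  · have h2 : ¬ ℓ ∣ m + 1 := by
      intro h2
      have h3 : ℓ ∣ (m + 1) - (m - 1) := Nat.dvd_sub h2 h1
      have h4 : (m + 1) - (m - 1) = 2 := by omega
      rw [h4] at h3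
      have := Nat.le_of_dvd (by norm_num) h3
      omega
    have hcop : Nat.Coprime (ℓ ^ 2) (m + 1) :=
      Nat.Coprime.pow_left 2 ((Nat.Prime.coprime_iff_not_dvd hℓ).mpr h2)
    have h5 : ℓ ^ 2 ∣ m - 1 := hcop.dvd_of_dvd_mul_right hd
    have := Nat.le_of_dvd (by omega) h5
    omega
  · have hcop : Nat.Coprime (ℓ ^ 2) (m - 1) :=
      Nat.Coprime.pow_left 2 ((Nat.Prime.coprime_iff_not_dvd hℓ).mpr h1)
    have h5 : ℓ ^ 2 ∣ m + 1 := hcop.dvd_of_dvd_mul_left hd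
    have := Nat.le_of_dvd (by omega) h5
    omega

/-- a primitive prime divisor is odd -/
theorem ppd_odd (q n ℓ : ℕ) (hn : 2 ≤ n) (hdvd : ℓ ∣ q ^ n - 1) (hq : 1 ≤ q)
    (hppd : ∀ i, 1 ≤ i → i < n → ¬ ℓ ∣ q ^ i - 1) : ℓ ≠ 2 := by
  rintro rfl
  have h1 := hppd 1 le_rfl (by omega)
  rw [pow_one] at h1
  apply h1
  have h2 : 1 ≤ q ^ n := Nat.one_le_pow _ _ hq
  -- q ^ n is odd so q is odd
  have h3 : ¬ 2 ∣ q ^ n := by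
    intro h
    have := (Nat.dvd_sub h hdvd)
    have e : q ^ n - (q ^ n - 1) = 1 := by omega
    rw [e] at this
    norm_num at this
  have h4 : ¬ 2 ∣ q := fun h => h3 (dvd_pow h (by omega))
  omega

theorem exc_num (q n ℓ : ℕ)
    (hexc : (q = 2 ∧ n = 4 ∧ ℓ = 5) ∨ (q = 2 ∧ n = 10 ∧ ℓ = 11) ∨ (q = 2 ∧ n = 12 ∧ ℓ = 13) ∨
      (q = 2 ∧ n = 18 ∧ ℓ = 19) ∨ (q = 3 ∧ n = 6 ∧ ℓ = 7) ∨ (q = 5 ∧ n = 6 ∧ ℓ = 7)) :
    ℓ.Prime ∧ ℓ ∣ q ^ n - 1 ∧ (∀ i, 1 ≤ i → i < n → ¬ ℓ ∣ q ^ i - 1) ∧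
      ∀ r k : ℕ, r.Prime → r ≠ q → 1 ≤ k → r ^ k ≤ n → ¬ ℓ ^ 1 ∣ r ^ k * r ^ k - 1 := by
  have key : ∀ (q n ℓ : ℕ), (∀ m, 2 ≤ m → m ≤ n → ℓ ∣ m * m - 1 →
      (q.Prime ∧ q ∣ m) ∨ (2 ∣ m ∧ 3 ∣ m)) →
      ∀ r k : ℕ, r.Prime → r ≠ q → 1 ≤ k → r ^ k ≤ n → ¬ ℓ ^ 1 ∣ r ^ k * r ^ k - 1 := by
    intro q n ℓ hall r k hr hrq hk hle hd
    rw [pow_one] at hd
    have hdvd_of : ∀ p : ℕ, p.Prime → p ∣ r ^ k → p = r := fun p hp hpm =>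
      (Nat.prime_dvd_prime_iff_eq hp hr).mp (hp.dvd_of_dvd_pow hpm)
    rcases hall (r ^ k) (pow_ge_two r k hr hk) hle hd with ⟨hqp, hq⟩ | ⟨h2, h3⟩
    · exact hrq (hdvd_of q hqp hq).symm
    · have a := hdvd_of 2 Nat.prime_two h2
      have b := hdvd_of 3 Nat.prime_three h3
      omega
  rcases hexc with ⟨rfl, rfl, rfl⟩ | ⟨rfl, rfl, rfl⟩ | ⟨rfl, rfl, rfl⟩ | ⟨rfl, rfl, rfl⟩ |
    ⟨rfl, rfl, rfl⟩ | ⟨rfl, rfl, rfl⟩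
  all_goals
    refine ⟨by norm_num, by norm_num, ?_, ?_⟩
    · intro i h1 h2
      interval_cases i <;> norm_num
    · apply key
      intro m hm2 hmn hd
      interval_cases m <;> first | (exfalso; revert hd; norm_num; done) | (left; constructor <;> norm_num; done) | (right; constructor <;> norm_num; done)

end Cfsg.Agent.Lib.Helper63.Hup6
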