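import Cfsg.Agent.Lib.Helper96.HyDefs
import Cfsg.Agent.Lib.Helper51.HypPairs
import Cfsg.Prelude.Def_GeometricClasses
import Cfsg.Prelude.Def_Classical

/-!
Project HY (S5992, helper96), piece GLUEB (helper63): elements of `omegaGL (quadFormOdd d F)` are
isometries of the polar form of `QOdd d F`, and every isometry of that polar form is the linear map
of an invertible matrix preserving `quadFormOdd d F`.
-/

set_option autoImplicit false
set_option linter.unusedSectionVars false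
set_option linter.unusedVariables false

namespace Cfsg.Agent.Lib.Helper63.Hy

open Module Polynomial Cfsg.Agent.Lib.Helper96.Sp Cfsg.Agent.Lib.Helper96.Hy
  Cfsg.Agent.Lib.Helper47

universe u

open Matrix
open scoped MatrixGroups

variable {F : Type u} [Field F] [Fintype F]

theorem glueb_nd (h2 : (2 : F) ≠ 0) (d : ℕ) :
    ND (QuadraticMap.polarBilin (Cfsg.Agent.Lib.Helper51.QOdd d F)) ⊤ := by
  classical
  intro u _ hu
  have key : ∀ x : Unit ⊕ (Fin d ⊕ Fin d) → F,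
      QuadraticMap.polar ⇑(Cfsg.Agent.Lib.Helper51.QOdd d F) u x = 0 := by
    intro x
    have h1 := hu x Submodule.mem_top
    rwa [QuadraticMap.polarBilin_apply_apply] at h1
  funext k
  rcases k with ⟨⟩ | j | j
  · have h1 := key (Pi.single (Sum.inl ()) 1)
    rw [Cfsg.Agent.Lib.Helper51.polar_QOdd] at h1
    simp [Pi.single_apply] at h1
    rcases h1 with h1 | h1
    · exact absurd h1 h2
    · exact h1
  · have h1 := key (Pi.single (Sum.inr (Sum.inr j)) 1)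
    rw [Cfsg.Agent.Lib.Helper51.polar_QOdd] at h1
    simpa [Pi.single_apply] using h1
  · have h1 := key (Pi.single (Sum.inr (Sum.inl j)) 1)
    rw [Cfsg.Agent.Lib.Helper51.polar_QOdd] at h1
    simpa [Pi.single_apply] using h1

-- PIECE GLUEB
theorem glue_isom (h2 : (2 : F) ≠ 0) (d : ℕ) :
    (∀ x : GL (Unit ⊕ (Fin d ⊕ Fin d)) F, x ∈ Cfsg.Geo.omegaGL (Cfsg.quadFormOdd d F) →
      Isom (QuadraticMap.polarBilin (Cfsg.Agent.Lib.Helper51.QOdd d F))
        (Matrix.toLin' (x : Matrix (Unit ⊕ (Fin d ⊕ Fin d)) (Unit ⊕ (Fin d ⊕ Fin d)) F))) ∧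
    (∀ T : Module.End F (Unit ⊕ (Fin d ⊕ Fin d) → F),
      Isom (QuadraticMap.polarBilin (Cfsg.Agent.Lib.Helper51.QOdd d F)) T →
      ∃ x : GL (Unit ⊕ (Fin d ⊕ Fin d)) F,
        Matrix.toLin' (x : Matrix (Unit ⊕ (Fin d ⊕ Fin d)) (Unit ⊕ (Fin d ⊕ Fin d)) F) = T ∧
        ∀ v, Cfsg.quadFormOdd d F ((x : Matrix (Unit ⊕ (Fin d ⊕ Fin d))
          (Unit ⊕ (Fin d ⊕ Fin d)) F) *ᵥ v) = Cfsg.quadFormOdd d F v) := by
  classical
  have hcoe := Cfsg.Agent.Lib.Helper51.coe_QOdd d F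
  have hpol : ∀ u v : Unit ⊕ (Fin d ⊕ Fin d) → F,
      QuadraticMap.polarBilin (Cfsg.Agent.Lib.Helper51.QOdd d F) u v
        = Cfsg.quadFormOdd d F (u + v) - Cfsg.quadFormOdd d F u - Cfsg.quadFormOdd d F v := by
    intro u v
    rw [QuadraticMap.polarBilin_apply_apply, QuadraticMap.polar, hcoe]
  constructor
  · intro x hx
    obtain ⟨y, -, rfl⟩ := hx
    have hQ : ∀ u : Unit ⊕ (Fin d ⊕ Fin d) → F,
        Cfsg.quadFormOdd d F (((y : GL (Unit ⊕ (Fin d ⊕ Fin d)) F) :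
          Matrix (Unit ⊕ (Fin d ⊕ Fin d)) (Unit ⊕ (Fin d ⊕ Fin d)) F) *ᵥ u)
          = Cfsg.quadFormOdd d F u := fun u => y.2 u u
    intro u v
    rw [hpol, hpol, Matrix.toLin'_apply, Matrix.toLin'_apply, ← Matrix.mulVec_add]
    show Cfsg.quadFormOdd d F (((y : GL (Unit ⊕ (Fin d ⊕ Fin d)) F) :
          Matrix (Unit ⊕ (Fin d ⊕ Fin d)) (Unit ⊕ (Fin d ⊕ Fin d)) F) *ᵥ (u + v))
        - Cfsg.quadFormOdd d F (((y : GL (Unit ⊕ (Fin d ⊕ Fin d)) F) :
          Matrix (Unit ⊕ (Fin d ⊕ Fin d)) (Unit ⊕ (Fin d ⊕ Fin d)) F) *ᵥ u)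
        - Cfsg.quadFormOdd d F (((y : GL (Unit ⊕ (Fin d ⊕ Fin d)) F) :
          Matrix (Unit ⊕ (Fin d ⊕ Fin d)) (Unit ⊕ (Fin d ⊕ Fin d)) F) *ᵥ v) = _
    rw [hQ, hQ, hQ]
  · intro T hT
    have hinj := isom_injective (glueb_nd h2 d) hT
    have hTv : ∀ v, (LinearMap.toMatrix' T) *ᵥ v = T v := fun v => by
      rw [← Matrix.toLin'_apply, Matrix.toLin'_toMatrix']
    have hU : IsUnit (LinearMap.toMatrix' T) := by
      apply Matrix.mulVec_injective_iff_isUnit.mp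
      intro a b hab
      apply hinj
      rw [← hTv a, ← hTv b]
      exact hab
    refine ⟨hU.unit, ?_, ?_⟩
    · rw [IsUnit.unit_spec, Matrix.toLin'_toMatrix']
    · intro v
      rw [IsUnit.unit_spec, hTv]
      have h3 := hT v v
      rw [QuadraticMap.polarBilin_apply_apply, QuadraticMap.polarBilin_apply_apply,
        QuadraticMap.polar_self, QuadraticMap.polar_self] at h3
      rw [← hcoe]
      simp only [nsmul_eq_mul, Nat.cast_ofNat, smul_eq_mul] at h3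
      exact mul_left_cancel₀ h2 h3

end Cfsg.Agent.Lib.Helper63.Hy
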