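import Mathlib
import Cfsg.Agent.Lib.Helper45.NRankDefs

set_option autoImplicit false

namespace Cfsg.Agent.Lib.Helper63.NRank

open Cfsg.Agent.Lib.Helper45.NRank

theorem NEA.base {T : Type*} [Group T] [Finite T] (hT : IsPGroup 2 T) (hnt : Nontrivial T) :
    NEA T 1 := by
  have : Fact (Nat.Prime 2) := ⟨Nat.prime_two⟩
  have : Nontrivial (Subgroup.center T) := hT.center_nontrivial
  have hZ : IsPGroup 2 (Subgroup.center T) := hT.to_subgroup _
  obtain ⟨n, hn⟩ := IsPGroup.iff_card.mp hZ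
  have hn0 : n ≠ 0 := by
    rintro rfl
    have h1 : 1 < Nat.card (Subgroup.center T) := Finite.one_lt_card
    rw [hn] at h1
    simp at h1
  have hdvd : 2 ∣ Nat.card (Subgroup.center T) := by
    rw [hn]
    exact dvd_pow_self 2 hn0
  obtain ⟨x, hx⟩ := exists_prime_orderOf_dvd_card' (G := Subgroup.center T) 2 hdvd
  have hz2 : orderOf (x : T) = 2 := by rw [Subgroup.orderOf_coe]; exact hx
  have hzc : ∀ g : T, g * (x : T) = (x : T) * g := Subgroup.mem_center_iff.mp x.2
  have hle : Subgroup.zpowers (x : T) ≤ Subgroup.center T :=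
    (Subgroup.zpowers_le).mpr x.2
  refine ⟨Subgroup.zpowers (x : T), ⟨?_⟩, ?_, ?_, ?_⟩
  · intro a ha g
    have h1 : g * a = a * g := Subgroup.mem_center_iff.mp (hle ha) g
    rw [h1, mul_inv_cancel_right]
    exact ha
  · intro a ha b _
    exact (Subgroup.mem_center_iff.mp (hle ha) b).symm
  · intro a ha
    obtain ⟨k, rfl⟩ := Subgroup.mem_zpowers_iff.mp ha
    have h1 : (x : T) ^ 2 = 1 := by rw [← hz2]; exact pow_orderOf_eq_one _
    rw [← zpow_natCast, ← zpow_mul, mul_comm, zpow_mul, zpow_natCast, h1, one_zpow]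
  · rw [Nat.card_zpowers, hz2, pow_one]

theorem NEA.prod {A B : Type*} [Group A] [Group B] {a b : ℕ} (hA : NEA A a) (hB : NEA B b) :
    NEA (A × B) (a + b) := by
  obtain ⟨EA, hAn, hAc, hAe, hAcard⟩ := hA
  obtain ⟨EB, hBn, hBc, hBe, hBcard⟩ := hB
  refine ⟨EA.prod EB, Subgroup.prod_normal EA EB, ?_, ?_, ?_⟩
  · intro x hx y hy
    rw [Subgroup.mem_prod] at hx hy
    exact Prod.ext (hAc _ hx.1 _ hy.1) (hBc _ hx.2 _ hy.2)
  · intro x hx
    rw [Subgroup.mem_prod] at hx
    exact Prod.ext (hAe _ hx.1) (hBe _ hx.2)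
  · rw [Nat.card_congr (Subgroup.prodEquiv EA EB).toEquiv, Nat.card_prod, hAcard, hBcard,
      pow_add]

theorem NEA.wreath {D : Type*} [Group D] {k : ℕ} (hD : NEA D k) :
    NEA (RegularWreathProduct D (Multiplicative (ZMod 2))) (2 * k) := by
  obtain ⟨E, hEn, hEc, hEe, hEcard⟩ := hD
  let E' : Subgroup (RegularWreathProduct D (Multiplicative (ZMod 2))) :=
    { carrier := {x | x.right = 1 ∧ ∀ q, x.left q ∈ E}
      one_mem' := ⟨rfl, fun q => E.one_mem⟩
      mul_mem' := by
        rintro x y ⟨hx1, hx2⟩ ⟨hy1, hy2⟩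
        refine ⟨?_, fun q => ?_⟩
        · rw [RegularWreathProduct.mul_right, hx1, hy1, one_mul]
        · rw [RegularWreathProduct.mul_left]
          exact E.mul_mem (hx2 q) (hy2 _)
      inv_mem' := by
        rintro x ⟨hx1, hx2⟩
        refine ⟨?_, fun q => ?_⟩
        · rw [RegularWreathProduct.inv_right, hx1, inv_one]
        · rw [RegularWreathProduct.inv_left]
          exact E.inv_mem (hx2 _) }
  have hmem : ∀ x, x ∈ E' ↔ x.right = 1 ∧ ∀ q, x.left q ∈ E := fun x => Iff.rfl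
  refine ⟨E', ⟨?_⟩, ?_, ?_, ?_⟩
  · intro n hn g
    obtain ⟨hn1, hn2⟩ := (hmem n).mp hn
    rw [hmem]
    refine ⟨?_, fun q => ?_⟩
    · simp [hn1]
    · have h1 : (g * n * g⁻¹).left q = g.left q * n.left (g.right⁻¹ * q) * (g.left q)⁻¹ := by
        simp [hn1]
      rw [h1]
      exact hEn.conj_mem _ (hn2 _) _
  · intro x hx y hy
    obtain ⟨hx1, hx2⟩ := (hmem x).mp hx
    obtain ⟨hy1, hy2⟩ := (hmem y).mp hy
    ext q
    · simp only [RegularWreathProduct.mul_left, Pi.mul_apply, hx1, hy1, inv_one, one_mul]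
      exact hEc _ (hx2 q) _ (hy2 q)
    · simp [hx1, hy1]
  · intro x hx
    obtain ⟨hx1, hx2⟩ := (hmem x).mp hx
    rw [pow_two]
    ext q
    · simp only [RegularWreathProduct.mul_left, Pi.mul_apply, hx1, inv_one, one_mul,
        RegularWreathProduct.one_left, Pi.one_apply]
      rw [← pow_two]
      exact hEe _ (hx2 q)
    · simp [hx1]
  · have e : E' ≃ (Multiplicative (ZMod 2) → E) :=
      { toFun := fun x q => ⟨x.1.left q, ((hmem x.1).mp x.2).2 q⟩
        invFun := fun f => ⟨⟨fun q => (f q : D), 1⟩, (hmem _).mpr ⟨rfl, fun q => (f q).2⟩⟩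
        left_inv := by
          intro x
          apply Subtype.ext
          ext q
          · rfl
          · exact ((hmem x.1).mp x.2).1.symm
        right_inv := by
          intro f
          rfl }
    rw [Nat.card_congr e, Nat.card_fun, hEcard]
    have h2 : Nat.card (Multiplicative (ZMod 2)) = 2 := by
      rw [Nat.card_congr Multiplicative.toAdd, Nat.card_zmod]
    rw [h2, ← pow_mul, mul_comm]

end Cfsg.Agent.Lib.Helper63.NRank
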