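import Cfsg.Agent.Lib.Helper52.PN4Defs

/-!
# Project PN4 (helper52, for S2715), piece ROOT (helper63)

Conjugation by the diagonal similarity `D8 d` multiplies the parameter of the orthogonal root
element `xs r` by `rat d r`; on the simple roots `18, 14, 13, 12` the factor is `d 0, ..., d 3`.
-/

set_option autoImplicit false

namespace Cfsg.Agent.Lib.Helper52.PN4

open Cfsg Cfsg.Lie Matrix Cfsg.Agent.Lib.Helper99 Cfsg.Agent.Lib.Helper99.D4

variable {F : Type*} [Field F]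

/-- the sign with `xs r t = Xr a b (sg r * t)` -/
private def pn4root_sg : Fin 24 → F :=
  ![1, 1, 1, 1, -1, 1, -1, -1, -1, 1, 1, 1, -1, 1, 1, 1, -1, 1, 1, -1, -1, 1, -1, -1]

private theorem pn4root_xs (r : Fin 24) (t : F) :
    xs r t = Xr (rab r).1 (rab r).2 (pn4root_sg r * t) := by
  fin_cases r <;>
    first
    | (show Xr _ _ t = Xr _ _ ((1 : F) * t); rw [one_mul]; rfl)
    | (show Xr _ _ (-t) = Xr _ _ ((-1 : F) * t); rw [neg_one_mul]; rfl)

private theorem pn4root_mu (d : Fin 4 → Fˣ) (c : Fin 8) :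
    dl (F := F) d (pr c) = mu d * (dl d c)⁻¹ := by
  have h0 : ((d 0 : Fˣ) : F) ≠ 0 := (d 0).ne_zero
  have h1 : ((d 1 : Fˣ) : F) ≠ 0 := (d 1).ne_zero
  have h2 : ((d 2 : Fˣ) : F) ≠ 0 := (d 2).ne_zero
  have h3 : ((d 3 : Fˣ) : F) ≠ 0 := (d 3).ne_zero
  fin_cases c <;> (apply Units.ext; simp [dl, mu, pr]) <;> field_simp

private theorem pn4root_ds (u v : Fin 8 → F) (a b : Fin 8) :
    diagonal u * Matrix.single a b (1 : F) * diagonal v
      = (u a * v b) • Matrix.single a b (1 : F) := by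
  ext c p
  rw [Matrix.mul_diagonal, Matrix.diagonal_mul, Matrix.smul_apply, Matrix.single_apply,
    smul_eq_mul]
  by_cases h : a = c ∧ b = p
  · obtain ⟨rfl, rfl⟩ := h
    simp
  · rw [if_neg h]
    simp

private theorem pn4root_Xr (d : Fin 4 → Fˣ) (a b : Fin 8) (t : F) :
    D8 d * Xr a b t * D8i d = Xr a b (((dl d a * (dl d b)⁻¹ : Fˣ) : F) * t) := by
  have hab : dl (F := F) d (pr b) * (dl d (pr a))⁻¹ = dl d a * (dl d b)⁻¹ := by
    rw [pn4root_mu, pn4root_mu, mul_inv, inv_inv, mul_mul_mul_comm, mul_inv_cancel, one_mul,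
      mul_comm]
  have hab' : ((dl d (pr b) : Fˣ) : F) * (((dl d (pr a))⁻¹ : Fˣ) : F)
      = ((dl d a * (dl d b)⁻¹ : Fˣ) : F) := by
    rw [← Units.val_mul, hab]
  have hone : D8 d * D8i d = (1 : Matrix (Fin 8) (Fin 8) F) := by
    unfold D8 D8i
    rw [Matrix.diagonal_mul_diagonal]
    simp
  have e1 : D8 d * Matrix.single a b (1 : F) * D8i d
      = ((dl d a * (dl d b)⁻¹ : Fˣ) : F) • Matrix.single a b (1 : F) := by
    unfold D8 D8i
    rw [pn4root_ds, Units.val_mul]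
  have e2 : D8 d * Matrix.single (pr b) (pr a) (1 : F) * D8i d
      = ((dl d a * (dl d b)⁻¹ : Fˣ) : F) • Matrix.single (pr b) (pr a) (1 : F) := by
    unfold D8 D8i
    rw [pn4root_ds, hab']
  unfold Xr
  rw [Matrix.mul_add, Matrix.add_mul, Matrix.mul_one, hone, Matrix.mul_smul, Matrix.smul_mul,
    Matrix.mul_sub, Matrix.sub_mul, e1, e2, ← smul_sub, smul_smul,
    mul_comm t (((dl d a * (dl d b)⁻¹ : Fˣ) : F))]

theorem xs_conj (d : Fin 4 → Fˣ) (r : Fin 24) (t : F) :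
    D8 d * xs r t * D8i d = xs r (((rat d r : Fˣ) : F) * t) := by
  rw [pn4root_xs r t, pn4root_xs r, pn4root_Xr]
  congr 1
  unfold rat
  ring

theorem rat_simple (d : Fin 4 → Fˣ) :
    rat d 18 = d 0 ∧ rat d 14 = d 1 ∧ rat d 13 = d 2 ∧ rat d 12 = d 3 := by
  have h0 : ((d 0 : Fˣ) : F) ≠ 0 := (d 0).ne_zero
  have h1 : ((d 1 : Fˣ) : F) ≠ 0 := (d 1).ne_zero
  have h2 : ((d 2 : Fˣ) : F) ≠ 0 := (d 2).ne_zero
  have h3 : ((d 3 : Fˣ) : F) ≠ 0 := (d 3).ne_zero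
  refine ⟨?_, ?_, ?_, ?_⟩ <;> (apply Units.ext; simp [rat, rab, dl])

end Cfsg.Agent.Lib.Helper52.PN4
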