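import Mathlib
import Cfsg.Agent.Lib.Helper44.PU3Defs

/-!
S2784/S2786 piece PU3-NONDER (helper44): a `3 × 3` matrix without eigenvalues satisfies no
nonzero polynomial of degree at most two.
-/

set_option autoImplicit false

namespace Cfsg.Agent.Lib.Helper44.PU3

open Matrix Polynomial

-- piece NONDER
theorem pu3_nonder {F : Type*} [Field F] : NonDerStmt F := by
  intro g hg a b c habc
  -- the characteristic polynomial has no root
  have hroots : g.charpoly.roots = 0 := by
    rw [Multiset.eq_zero_iff_forall_notMem]
    intro μ hμ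
    have h1 : g.charpoly.IsRoot μ := Polynomial.isRoot_of_mem_roots hμ
    rw [Polynomial.IsRoot, Matrix.eval_charpoly] at h1
    apply hg μ
    have h2 : g - μ • (1 : Matrix (Fin 3) (Fin 3) F) = -(Matrix.scalar (Fin 3) μ - g) := by
      rw [neg_sub, Matrix.scalar_apply, Matrix.smul_one_eq_diagonal]
    rw [h2, Matrix.det_neg, h1, mul_zero]
  have hirr : Irreducible g.charpoly := by
    rw [Polynomial.Monic.irreducible_iff_roots_eq_zero_of_degree_le_three (Matrix.charpoly_monic g)]
    · exact hroots
    · rw [Matrix.charpoly_natDegree_eq_dim]; simp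
    · rw [Matrix.charpoly_natDegree_eq_dim]; simp
  have hmin : g.charpoly = minpoly F g :=
    minpoly.eq_of_irreducible_of_monic hirr (Matrix.aeval_self_charpoly g)
      (Matrix.charpoly_monic g)
  have hP0 : Polynomial.aeval g (C c * X ^ 2 + C b * X + C a : F[X]) = 0 := by
    simp only [map_add, map_mul, Polynomial.aeval_C, Polynomial.aeval_X,
      Algebra.algebraMap_eq_smul_one, smul_mul_assoc, one_mul, pow_two]
    rw [← habc]
    abel
  have hdvd : minpoly F g ∣ (C c * X ^ 2 + C b * X + C a : F[X]) := minpoly.dvd F g hP0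
  have hP : (C c * X ^ 2 + C b * X + C a : F[X]) = 0 := by
    by_contra hne
    have h1 := Polynomial.natDegree_le_of_dvd hdvd hne
    rw [← hmin, Matrix.charpoly_natDegree_eq_dim, Fintype.card_fin] at h1
    have h2 : (C c * X ^ 2 + C b * X + C a : F[X]).natDegree ≤ 2 :=
      Polynomial.natDegree_quadratic_le
    omega
  have ha : a = 0 := by
    have := congrArg (fun p : F[X] => p.coeff 0) hP
    simpa using this
  have hb : b = 0 := by
    have := congrArg (fun p : F[X] => p.coeff 1) hP
    simpa using this
  have hc : c = 0 := by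
    have := congrArg (fun p : F[X] => p.coeff 2) hP
    simpa using this
  exact ⟨ha, hb, hc⟩

end Cfsg.Agent.Lib.Helper44.PU3
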