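import Mathlib
import Cfsg.Prelude.Def_Blocks
import Cfsg.Agent.Lib.Helper83.IrrBasic

/-! helper63: piece TGC-SUM (`sum_of`) for helper33's `gen_pack` (S4442). -/

set_option autoImplicit false

namespace Cfsg.Agent.Lib.Helper63.TGC

open Cfsg
open scoped ComplexConjugate

/-- reindexing of the nonzero residues by a unit -/
theorem sum_Ico_eq_sum_unit (p : ℕ) [Fact p.Prime] (k : (ZMod p)ˣ) (g : ℕ → ℂ) :
    ∑ t ∈ Finset.Ico 1 p, g t =
      ∑ τ ∈ Finset.univ.filter (fun t : ZMod p => t ≠ 0), g ((k : ZMod p) * τ).val := by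
  have hp : p.Prime := Fact.out
  symm
  refine Finset.sum_nbij' (fun τ : ZMod p => ((k : ZMod p) * τ).val)
    (fun t : ℕ => ((k⁻¹ : (ZMod p)ˣ) : ZMod p) * (t : ZMod p)) ?_ ?_ ?_ ?_ ?_
  · intro τ hτ
    rw [Finset.mem_filter] at hτ
    rw [Finset.mem_Ico]
    refine ⟨?_, ZMod.val_lt _⟩
    by_contra h
    have h0 : ((k : ZMod p) * τ).val = 0 := by omega
    have h1 : (k : ZMod p) * τ = 0 := (ZMod.val_eq_zero _).1 h0
    exact hτ.2 ((Units.mul_right_eq_zero k).mp h1)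
  · intro t ht
    rw [Finset.mem_Ico] at ht
    rw [Finset.mem_filter]
    refine ⟨Finset.mem_univ _, ?_⟩
    intro h0
    have h1 : (t : ZMod p) = 0 := (Units.mul_right_eq_zero (k⁻¹)).mp h0
    have h2 := (ZMod.natCast_eq_zero_iff t p).1 h1
    exact absurd (Nat.le_of_dvd (by omega) h2) (by omega)
  · intro τ _
    show ((k⁻¹ : (ZMod p)ˣ) : ZMod p) * ((((k : ZMod p) * τ).val : ℕ) : ZMod p) = τ
    rw [ZMod.natCast_zmod_val, Units.inv_mul_cancel_left]
  · intro t ht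
    rw [Finset.mem_Ico] at ht
    show ((k : ZMod p) * (((k⁻¹ : (ZMod p)ˣ) : ZMod p) * (t : ZMod p))).val = t
    rw [Units.mul_inv_cancel_left]
    exact ZMod.val_natCast_of_lt ht.2
  · intro τ _
    rfl

/-- abstract form of `sum_of` -/
theorem sum_abstract {ι : Type*} [Finite ι] (p : ℕ) [Fact p.Prime] (S : Set ι)
    (f : ι → ℕ → ℂ) (d : ZMod p → ℂ) (c0 : ℂ)
    (h : ∀ c ∈ S, ∃ k : (ZMod p)ˣ, ∀ t : ZMod p, f c ((k : ZMod p) * t).val = d t * c0) :
    ∑ t ∈ Finset.Ico 1 p, ∑ᶠ c ∈ S, f c t =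
      (Nat.card S : ℂ) * c0 * ∑ t ∈ Finset.univ.filter (fun t : ZMod p => t ≠ 0), d t := by
  classical
  have hS : S.Finite := Set.toFinite S
  have h1 : ∀ t : ℕ, ∑ᶠ c ∈ S, f c t = ∑ c ∈ hS.toFinset, f c t := fun t =>
    finsum_mem_eq_finite_toFinset_sum (fun c => f c t) hS
  simp only [h1]
  rw [Finset.sum_comm]
  have h2 : ∀ c ∈ hS.toFinset, ∑ t ∈ Finset.Ico 1 p, f c t =
      c0 * ∑ t ∈ Finset.univ.filter (fun t : ZMod p => t ≠ 0), d t := by
    intro c hc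
    obtain ⟨k, hk⟩ := h c (hS.mem_toFinset.mp hc)
    rw [sum_Ico_eq_sum_unit p k (f c), Finset.mul_sum]
    apply Finset.sum_congr rfl
    intro τ _
    rw [hk τ, mul_comm]
  rw [Finset.sum_congr rfl h2, Finset.sum_const, nsmul_eq_mul]
  have h3 : Nat.card S = hS.toFinset.card := by
    rw [Nat.card_coe_set_eq, Set.ncard_eq_toFinset_card S hS]
  rw [h3, mul_assoc]

variable {G : Type*} [Group G] [Fintype G] (p : ℕ) [Fact p.Prime]

/-- PIECE TGC-SUM : the sum of the values of `χ ∈ B` on the nontrivial powers of `z`. -/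
theorem sum_of (P : Sylow p G) (hP : Nat.card P = p)
    (B : Set (IrrCharacter G))
    (θ : IrrCharacter (Subgroup.centralizer ((P : Subgroup G) : Set G)))
    (z : G) (hz : z ∈ (P : Subgroup G)) (hz1 : z ≠ 1)
    (D : ZMod p → IrrCharacter G → ℂ)
    (S : Set (Set (IrrCharacter (Subgroup.centralizer ((P : Subgroup G) : Set G)))))
    (hsmt : ∀ χ ∈ B, ∀ t : ℕ, ¬ p ∣ t →
        (χ : G → ℂ) (z ^ t) = ∑ᶠ c ∈ S,
          blockPart c (fun x : Subgroup.centralizer ((P : Subgroup G) : Set G) =>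
            (χ : G → ℂ) (z ^ t * (x : G))) 1)
    (htrans : ∀ c ∈ S, ∃ k : (ZMod p)ˣ, ∀ χ ∈ B, ∀ (t : ZMod p),
          blockPart c (fun x : Subgroup.centralizer ((P : Subgroup G) : Set G) =>
            (χ : G → ℂ) (z ^ ((k : ZMod p) * t).val * (x : G))) 1 =
            D t χ * (θ : Subgroup.centralizer ((P : Subgroup G) : Set G) → ℂ) 1)
    (χ : IrrCharacter G) (hχ : χ ∈ B) :
    ∑ t ∈ Finset.Ico 1 p, (χ : G → ℂ) (z ^ t) =
      (Nat.card S : ℂ) * (θ : Subgroup.centralizer ((P : Subgroup G) : Set G) → ℂ) 1 *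
        ∑ t ∈ Finset.univ.filter (fun t : ZMod p => t ≠ 0), D t χ := by
  have h1 : ∀ t ∈ Finset.Ico 1 p, (χ : G → ℂ) (z ^ t) = ∑ᶠ c ∈ S,
      blockPart c (fun x : Subgroup.centralizer ((P : Subgroup G) : Set G) =>
        (χ : G → ℂ) (z ^ t * (x : G))) 1 := by
    intro t ht
    rw [Finset.mem_Ico] at ht
    exact hsmt χ hχ t (fun h => by
      have := Nat.le_of_dvd (by omega) h
      omega)
  rw [Finset.sum_congr rfl h1]
  exact sum_abstract p S
    (fun c t => blockPart c (fun x : Subgroup.centralizer ((P : Subgroup G) : Set G) =>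
        (χ : G → ℂ) (z ^ t * (x : G))) 1)
    (fun t => D t χ) _ (fun c hc => by
      obtain ⟨k, hk⟩ := htrans c hc
      exact ⟨k, fun t => hk χ hχ t⟩)

end Cfsg.Agent.Lib.Helper63.TGC
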